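import Cfsg.Agent.Mult93.L34.Cover

/-!
The Schur multiplier of `PSL₃` over four elements (helper93).
-/

set_option autoImplicit false

namespace Cfsg.Agent.Mult93.L34

open Subgroup
open scoped commutatorElement

universe u v

theorem not_dvd_card_ker_of_prime {Γ : Type u} [Group Γ] [Finite Γ] {G : Type v} [Group G] [Finite G]
    (σ : Γ →* G) (hσ : Cfsg.IsStemExtension σ) (ℓ : ℕ) [Fact ℓ.Prime]
    (h2 : ¬ ℓ ^ 2 ∣ Nat.card G) : ¬ ℓ ∣ Nat.card σ.ker := by
  classical
  let P : Sylow ℓ G := default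
  obtain ⟨n, hn⟩ := IsPGroup.iff_card.1 P.2
  have hn1 : n ≤ 1 := by
    by_contra h
    exact h2 ((pow_dvd_pow ℓ (by omega : 2 ≤ n)).trans (hn ▸ Subgroup.card_subgroup_dvd_card _))
  obtain ⟨g, hg⟩ : ∃ g : G, (P : Subgroup G) = closure {1, g} := by
    rcases Nat.eq_zero_or_pos n with rfl | h
    · exact ⟨1, by rw [Subgroup.eq_bot_of_card_eq (P : Subgroup G) (by simpa using hn), Set.pair_eq_singleton, Subgroup.closure_singleton_one]⟩
    · obtain rfl : n = 1 := by omega
      haveI : IsCyclic (P : Subgroup G) := isCyclic_of_prime_card (p := ℓ) (by simpa using hn)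
      obtain ⟨g, hg⟩ := IsCyclic.exists_generator (α := (P : Subgroup G))
      refine ⟨g.1, le_antisymm (fun x hx => ?_) ?_⟩
      · obtain ⟨k, hk⟩ := hg ⟨x, hx⟩
        rw [show x = g.1 ^ k from (congrArg Subtype.val hk).symm]
        exact zpow_mem (subset_closure (by simp)) k
      · rw [closure_le]
        rintro x (rfl | rfl)
        · exact one_mem _
        · exact g.2
  have h := Cfsg.Agent.Mult93.card_ker_dvd σ hσ ℓ (P : Subgroup G) P.not_dvd_index 0 (by
    rw [hg, zero_add, pow_one]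
    exact lt_of_le_of_lt (Cfsg.Agent.Mult93.card_le_of_commute σ hσ.1 hσ.2.1 1 g 1 one_pos
      (Commute.one_left g) (one_pow 1)) (Fact.out : ℓ.Prime).one_lt)
  rwa [zero_add, pow_one] at h

variable {F : Type u} [Field F] [Fintype F] (hF : Fintype.card F = 4)
include hF

theorem card_PSL : Nat.card (Matrix.ProjectiveSpecialLinearGroup (Fin 3) F) = 20160 := by
  have h : Nat.card (center (Matrix.SpecialLinearGroup (Fin 3) F)) = 3 := by
    rw [Cfsg.Agent.LinearGroup.card_center_SL, Nat.card_eq_fintype_card, hF, Fintype.card_fin]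
    rfl
  have h' := Cfsg.Agent.LinearGroup.card_SL_eq_center_mul_PSL (R := F) (n := Fin 3)
  rw [h, card_SL hF] at h'
  omega

theorem exists_sylow_three :
    ∃ a b : Matrix.ProjectiveSpecialLinearGroup (Fin 3) F, Commute a b ∧ a ^ 3 = 1 ∧
      ¬ 3 ∣ (closure ({a, b} : Set _)).index := by
  classical
  obtain ⟨ω, hω, -⟩ := exists_omega hF
  have hw0 : ω ≠ 0 := by rintro rfl; simp at hω
  have hw1 : ω ≠ 1 := by
    rintro rfl
    exact one_ne_zero (show (1 : F) = 0 by linear_combination hω - two_zero hF)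
  have hw3 : ω ^ 3 = 1 := pow_three hF hw0
  let A : Matrix.SpecialLinearGroup (Fin 3) F :=
    ⟨!![1, 0, 0; 0, ω, 0; 0, 0, ω ^ 2], by simp [Matrix.det_fin_three, ← pow_succ', hw3]⟩
  let B : Matrix.SpecialLinearGroup (Fin 3) F :=
    ⟨!![0, 1, 0; 0, 0, 1; 1, 0, 0], by simp [Matrix.det_fin_three]⟩
  let π := QuotientGroup.mk' (center (Matrix.SpecialLinearGroup (Fin 3) F))
  have hmk : ∀ x y : Matrix.SpecialLinearGroup (Fin 3) F,
      (∃ r : F, r ^ 3 = 1 ∧ x.1 = r • y.1) → π x = π y := by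
    rintro x y ⟨r, hr, h⟩
    refine ((QuotientGroup.eq).2 ?_).symm
    refine Matrix.SpecialLinearGroup.mem_center_iff.2 ⟨r, by simpa using hr, ?_⟩
    rw [Matrix.SpecialLinearGroup.coe_mul, h, Matrix.mul_smul, ← Matrix.SpecialLinearGroup.coe_mul,
      inv_mul_cancel]
    ext i l
    simp [Matrix.scalar_apply, Matrix.diagonal_apply, Matrix.one_apply]
  have hA3 : A ^ 3 = 1 := by
    apply Subtype.ext
    rw [pow_succ, sq, Matrix.SpecialLinearGroup.coe_mul, Matrix.SpecialLinearGroup.coe_mul]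
    ext i l
    fin_cases i <;> fin_cases l <;> simp [A, Matrix.mul_apply, Fin.sum_univ_three] <;> grind
  have hB3 : B ^ 3 = 1 := by
    apply Subtype.ext
    rw [pow_succ, sq, Matrix.SpecialLinearGroup.coe_mul, Matrix.SpecialLinearGroup.coe_mul]
    ext i l
    fin_cases i <;> fin_cases l <;> simp [B, Matrix.mul_apply, Fin.sum_univ_three]
  have hcomm : Commute (π A) (π B) := by
    show π A * π B = π B * π A
    rw [← map_mul, ← map_mul]
    refine hmk _ _ ⟨ω ^ 2, by rw [← pow_mul, pow_mul', hw3, one_pow], ?_⟩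
    rw [Matrix.SpecialLinearGroup.coe_mul, Matrix.SpecialLinearGroup.coe_mul]
    ext i l
    fin_cases i <;> fin_cases l <;>
      simp [A, B, Matrix.mul_apply, Fin.sum_univ_three] <;>
      grind
  let φ : Multiplicative (ZMod 3 × ZMod 3) →* Matrix.ProjectiveSpecialLinearGroup (Fin 3) F :=
    MonoidHom.mk' (fun v => π A ^ v.toAdd.1.val * π B ^ v.toAdd.2.val) fun v w => by
      have key : ∀ g : Matrix.SpecialLinearGroup (Fin 3) F, g ^ 3 = 1 → ∀ i l : ZMod 3,
          π g ^ (i + l).val = π g ^ i.val * π g ^ l.val := fun g hg i l => by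
        rw [ZMod.val_add, ← pow_add, ← pow_eq_pow_mod _ (by rw [← map_pow, hg, map_one])]
      show π A ^ (v.toAdd.1 + w.toAdd.1).val * π B ^ (v.toAdd.2 + w.toAdd.2).val = _
      rw [key A hA3, key B hB3]
      exact (hcomm.pow_pow _ _).mul_mul_mul_comm _ _
  have hinj : Function.Injective φ := by
    rw [injective_iff_map_eq_one]
    intro v hv
    have hv' : π (A ^ v.toAdd.1.val * B ^ v.toAdd.2.val) = 1 := by
      rw [map_mul, map_pow, map_pow]; exact hv
    obtain ⟨r, -, hr⟩ := mem_center_scalar ((QuotientGroup.eq_one_iff _).1 hv')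
    have key : v.toAdd.1.val = 0 ∧ v.toAdd.2.val = 0 := by
      have hi := ZMod.val_lt v.toAdd.1
      have hl := ZMod.val_lt v.toAdd.2
      generalize v.toAdd.1.val = i at hr hi
      generalize v.toAdd.2.val = l at hr hl
      rw [Matrix.SpecialLinearGroup.coe_mul, Matrix.SpecialLinearGroup.coe_pow,
        Matrix.SpecialLinearGroup.coe_pow] at hr
      have r00 := congrFun (congrFun hr 0) 0
      have r11 := congrFun (congrFun hr 1) 1
      have r01 := congrFun (congrFun hr 0) 1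
      have r02 := congrFun (congrFun hr 0) 2
      interval_cases i <;> interval_cases l <;>
        simp [A, B, pow_succ, Matrix.mul_apply, Fin.sum_univ_three, Matrix.diagonal_apply,
          Matrix.scalar_apply, Matrix.one_apply] at r00 r11 r01 r02 ⊢ <;>
        grind
    exact Prod.ext ((ZMod.val_eq_zero _).1 key.1) ((ZMod.val_eq_zero _).1 key.2)
  refine ⟨π A, π B, hcomm, by rw [← map_pow, hA3, map_one], fun h => ?_⟩
  have hle : φ.range ≤ closure ({π A, π B} : Set _) := by
    rintro _ ⟨v, rfl⟩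
    exact mul_mem (pow_mem (subset_closure (by simp)) _) (pow_mem (subset_closure (by simp)) _)
  have h9 : Nat.card φ.range = 9 := by
    rw [Nat.card_congr (MonoidHom.ofInjective hinj).toEquiv.symm, Nat.card_eq_fintype_card]
    rfl
  have := (Subgroup.card_mul_index φ.range)
  rw [h9, card_PSL hF] at this
  have h' : 3 ∣ φ.range.index := h.trans (Subgroup.index_dvd_of_le hle)
  omega

/-- Stem extensions of `PSL₃` over four elements have kernel a quotient of `C₃ × C₄ × C₄`. -/
theorem exists_surjection {Γ : Type u} [Group Γ] [Finite Γ]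
    (σ : Γ →* Matrix.ProjectiveSpecialLinearGroup (Fin 3) F) (hσ : Cfsg.IsStemExtension σ) :
    ∃ π : Multiplicative (ZMod 3 × ZMod 4 × ZMod 4) →* σ.ker, Function.Surjective π := by
  classical
  obtain ⟨π, hπ, ⟨S, hS, hK⟩, -⟩ := exists_bound hF σ hσ.1 hσ.2.1
    (QuotientGroup.mk' _) (QuotientGroup.mk'_surjective _)
  let _ : CommGroup σ.ker :=
    { mul_comm := fun x y => Subtype.ext (Subgroup.mem_center_iff.1 (hσ.2.1 y.2) x) }
  let π' : Multiplicative (ZMod 4 × ZMod 4) →* σ.ker :=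
    π.codRestrict σ.ker fun v => (hπ ⟨v, rfl⟩).1
  let K := π'.range
  have hpow : ∀ x : σ.ker, x ^ (S.index * 3) ∈ K := fun x => by
    have h := Cfsg.Agent.Schur.pow_index_mem_commutator (S.comap σ) (hσ.2.1 x.2) (hσ.2.2 x.2)
    rw [Subgroup.map_subtype_commutator, Subgroup.index_comap_of_surjective S hσ.1] at h
    obtain ⟨v, hv⟩ := hK _ ⟨pow_mem x.2 _, h⟩
    exact ⟨v, Subtype.ext (hv.trans (by rw [← pow_mul]; rfl))⟩
  -- the primes
  have hcard := card_PSL hF
  have hnot : ∀ ℓ : ℕ, ℓ.Prime → ℓ ≠ 2 → ℓ ≠ 3 → ¬ ℓ ∣ Nat.card σ.ker := by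
    intro ℓ hℓ h2 h3
    haveI := Fact.mk hℓ
    refine not_dvd_card_ker_of_prime σ hσ ℓ fun h => ?_
    rw [hcard] at h
    have hle : ℓ ^ 2 ≤ 20160 := Nat.le_of_dvd (by norm_num) h
    have h5 : 5 ≤ ℓ := by
      have := hℓ.two_le
      rcases eq_or_ne ℓ 4 with rfl | h4
      · norm_num at hℓ
      · omega
    have hc : (ℓ ^ 2).Coprime 576 := by
      refine Nat.Coprime.pow_left 2 ((Nat.Prime.coprime_iff_not_dvd hℓ).2 fun hd => ?_)
      rcases (Nat.Prime.dvd_mul hℓ).1 (show ℓ ∣ 2 ^ 6 * 3 ^ 2 by norm_num; exact hd) with h' | h'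
      · exact h2 ((Nat.prime_dvd_prime_iff_eq hℓ Nat.prime_two).1 (hℓ.dvd_of_dvd_pow h'))
      · exact h3 ((Nat.prime_dvd_prime_iff_eq hℓ Nat.prime_three).1 (hℓ.dvd_of_dvd_pow h'))
    have h35 := hc.dvd_of_dvd_mul_left (show ℓ ^ 2 ∣ 576 * 35 from h)
    have hle35 := Nat.le_of_dvd (by norm_num) h35
    have h5' : ℓ = 5 := by nlinarith
    rw [h5'] at h35
    norm_num at h35
  have h9 : ¬ 9 ∣ Nat.card σ.ker := by
    obtain ⟨a, b, hab, ha, hidx⟩ := exists_sylow_three hF
    haveI : Fact (Nat.Prime 3) := ⟨Nat.prime_three⟩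
    exact Cfsg.Agent.Mult93.card_ker_dvd σ hσ 3 _ hidx 1
      (lt_of_le_of_lt (Cfsg.Agent.Mult93.card_le_of_commute σ hσ.1 hσ.2.1 a b 3 (by norm_num) hab ha)
        (by norm_num))
  have hidx3 : K.index ∣ 3 := by
    have hdvd : K.index ∣ Nat.card σ.ker := Subgroup.index_dvd_card K
    have h2 : ¬ 2 ∣ K.index := fun h => by
      haveI : Fact (Nat.Prime 2) := ⟨Nat.prime_two⟩
      obtain ⟨x, hx⟩ := exists_prime_orderOf_dvd_card' (G := σ.ker ⧸ K) 2
        (by rwa [← Subgroup.index_eq_card])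
      obtain ⟨x, rfl⟩ := QuotientGroup.mk_surjective x
      have h0 : (QuotientGroup.mk x : σ.ker ⧸ K) ^ (S.index * 3) = 1 := by
        rw [← QuotientGroup.mk_pow]; exact (QuotientGroup.eq_one_iff _).2 (hpow x)
      have := orderOf_dvd_of_pow_eq_one h0
      rw [hx] at this
      exact (Nat.not_even_iff_odd.2 (hS.mul (by decide : Odd 3))) (even_iff_two_dvd.2 this)
    have hne : K.index ≠ 0 := Subgroup.index_ne_zero_of_finite
    have hpow3 : K.index = 3 ^ K.index.primeFactorsList.length := by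
      refine Nat.eq_prime_pow_of_unique_prime_dvd hne fun {d} hd hdd => ?_
      by_contra h3
      by_cases h2' : d = 2
      · exact h2 (h2' ▸ hdd)
      · exact hnot d hd h2' h3 (hdd.trans hdvd)
    rw [hpow3]
    refine (pow_dvd_pow 3 ?_).trans (pow_one 3).dvd
    by_contra hlt
    refine h9 ((pow_dvd_pow 3 (by omega : 2 ≤ K.index.primeFactorsList.length)).trans ?_)
    rw [← hpow3]
    exact hdvd
  rcases (Nat.dvd_prime Nat.prime_three).1 hidx3 with h1 | h1
  · refine ⟨π'.comp (AddMonoidHom.snd (ZMod 3) (ZMod 4 × ZMod 4)).toMultiplicative, fun x => ?_⟩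
    have hx : x ∈ K := by rw [Subgroup.index_eq_one.1 h1]; exact mem_top _
    obtain ⟨v, rfl⟩ := hx
    exact ⟨Multiplicative.ofAdd (0, v.toAdd), rfl⟩
  · haveI : Fact (Nat.Prime 3) := ⟨Nat.prime_three⟩
    have h3c : 3 ∣ Nat.card σ.ker := by
      have h := Subgroup.index_dvd_card K
      rwa [h1] at h
    obtain ⟨g, hg⟩ := exists_prime_orderOf_dvd_card' (G := σ.ker) 3 h3c
    have hg3 : g ^ 3 = 1 := orderOf_dvd_iff_pow_eq_one.1 hg.dvd
    have hgK : g ∉ K := fun h => by
      have h16 : Nat.card K ∣ 16 := by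
        have := Subgroup.card_range_dvd π'
        rw [Nat.card_congr Multiplicative.toAdd, Nat.card_prod, Nat.card_zmod] at this
        exact this
      have h3K := orderOf_dvd_natCard (⟨g, h⟩ : K)
      rw [Subgroup.orderOf_mk, hg] at h3K
      have := h3K.trans h16
      omega
    let ψ : Multiplicative (ZMod 3 × ZMod 4 × ZMod 4) →* σ.ker := MonoidHom.mk'
      (fun v => g ^ v.toAdd.1.val * π' (Multiplicative.ofAdd v.toAdd.2)) fun v w => by
        show g ^ (v.toAdd.1 + w.toAdd.1).val *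
          π' (Multiplicative.ofAdd (v.toAdd.2 + w.toAdd.2)) = _
        rw [ZMod.val_add, ← pow_eq_pow_mod _ hg3, pow_add, ofAdd_add, map_mul]
        exact mul_mul_mul_comm _ _ _ _
    refine ⟨ψ, fun x => ?_⟩
    have hle : K ≤ ψ.range := by
      rintro _ ⟨v, rfl⟩
      exact ⟨Multiplicative.ofAdd (0, v.toAdd), by simp [ψ]⟩
    have hgm : g ∈ ψ.range := ⟨Multiplicative.ofAdd (1, 0), by
      show g ^ (1 : ZMod 3).val * π' 1 = g
      rw [map_one, mul_one, show (1 : ZMod 3).val = 1 from rfl, pow_one]⟩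
    have : ψ.range.index = 1 := by
      have hd := Subgroup.index_dvd_of_le hle
      rw [h1] at hd
      rcases (Nat.dvd_prime Nat.prime_three).1 hd with h | h
      · exact h
      · have hrel := Subgroup.relIndex_mul_index hle
        rw [h1, h] at hrel
        have : ψ.range ≤ K := Subgroup.relIndex_eq_one.1 (by omega)
        exact absurd (this hgm) hgK
    have hx : x ∈ ψ.range := by rw [Subgroup.index_eq_one.1 this]; exact mem_top _
    exact hx

theorem multiplier : Cfsg.HasSchurMultiplier (Matrix.ProjectiveSpecialLinearGroup (Fin 3) F)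
    (Multiplicative (ZMod 3 × ZMod 4 × ZMod 4)) :=
  ⟨exists_cover hF, fun _ _ _ σ hσ => exists_surjection hF σ hσ⟩

end Cfsg.Agent.Mult93.L34
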