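import Mathlib

/-!
A cocycle on the unitriangular group of degree three over four elements with values in
`ℤ/4 × ℤ/4` (helper93).
-/

set_option autoImplicit false

namespace Cfsg.Agent.Mult93.L34

open Matrix

/-- The coefficient group. -/
abbrev R4 : Type := ZMod 4 × ZMod 4

universe u

variable {F : Type u} [Field F] [Fintype F] (hF : Fintype.card F = 4)
include hF

theorem two_zero : (2 : F) = 0 := by
  haveI : CharP F 2 := charP_of_card_eq_prime_pow (hF.trans (by norm_num : 4 = 2 ^ 2))
  exact CharTwo.two_eq_zero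

theorem add_self (x : F) : x + x = 0 := by linear_combination x * two_zero hF

theorem pow_four (x : F) : x ^ 4 = x := by rw [← hF]; exact FiniteField.pow_card x

theorem pow_three {x : F} (hx : x ≠ 0) : x ^ 3 = 1 := by
  refine mul_right_cancel₀ hx ?_
  rw [← pow_succ, one_mul]; exact pow_four hF x

theorem exists_omega : ∃ w : F, w ^ 2 + w + 1 = 0 ∧ ∀ x : F, x = 0 ∨ x = 1 ∨ x = w ∨ x = w + 1 := by
  classical
  obtain ⟨w, hw⟩ : ∃ w : F, w ∉ ({0, 1} : Finset F) := by
    by_contra! h
    have := Finset.card_le_card (s := (Finset.univ : Finset F)) fun x _ => h x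
    rw [Finset.card_univ, hF] at this
    have h2 : ({0, 1} : Finset F).card ≤ 2 := Finset.card_le_two
    omega
  simp only [Finset.mem_insert, Finset.mem_singleton, not_or] at hw
  have hpoly : w ^ 2 + w + 1 = 0 := by
    have h : (w - 1) * (w ^ 2 + w + 1) = 0 := by linear_combination pow_three hF hw.1
    exact (mul_eq_zero.1 h).resolve_left (sub_ne_zero.2 hw.2)
  refine ⟨w, hpoly, fun x => ?_⟩
  have h2 := two_zero hF
  have h : x * (x - 1) * ((x - w) * (x - (w + 1))) = 0 := by
    linear_combination pow_four hF x + (x ^ 2 - x) * hpoly +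
      (-x ^ 3 * (w + 1) + x ^ 2 * (w + 1) - x * w) * h2 + (x + x * w - x ^ 2) * h2
  rcases mul_eq_zero.1 h with h | h
  · rcases mul_eq_zero.1 h with h | h
    · exact Or.inl h
    · exact Or.inr (Or.inl (sub_eq_zero.1 h))
  · rcases mul_eq_zero.1 h with h | h
    · exact Or.inr (Or.inr (Or.inl (sub_eq_zero.1 h)))
    · exact Or.inr (Or.inr (Or.inr (sub_eq_zero.1 h)))

theorem exists_lift : ∃ t : F → R4, ∃ two : F →+ R4, t 0 = 0 ∧ Function.Injective two ∧
    (∀ x, two x = t x + t x) ∧ ∀ x y, t (x + y) = t x + t y + two ((x * y) ^ 2) := by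
  classical
  obtain ⟨w, hw, hall⟩ := exists_omega hF
  have h2 := two_zero hF
  have hw0 : w ≠ 0 := by rintro rfl; simp at hw
  have hw1 : w ≠ 1 := by rintro rfl; exact one_ne_zero (show (1 : F) = 0 by linear_combination hw - h2)
  have hw2 : w + 1 ≠ 0 := fun h => hw1 (by linear_combination h - h2)
  have hw3 : w + 1 ≠ 1 := fun h => hw0 (by linear_combination h)
  have hw4 : w + 1 ≠ w := fun h => one_ne_zero (show (1 : F) = 0 by linear_combination h)
  let t : F → R4 := fun x => if x = 0 then 0 else if x = 1 then (1, 0) else if x = w then (0, 1)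
    else (3, 3)
  have t0 : t 0 = 0 := if_pos rfl
  have t1 : t 1 = (1, 0) := by simp [t]
  have tw : t w = (0, 1) := by simp [t, hw0, hw1]
  have tv : t (w + 1) = (3, 3) := by simp [t, hw2, hw3, hw4]
  have a1 : (1 : F) + 1 = 0 := add_self hF 1
  have a2 : (1 : F) + w = w + 1 := add_comm _ _
  have a3 : (1 : F) + (w + 1) = w := by linear_combination h2
  have a4 : w + w = 0 := add_self hF w
  have a5 : w + (w + 1) = 1 := by linear_combination w * h2
  have a6 : w + 1 + 1 = w := by linear_combination h2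
  have a7 : w + 1 + w = 1 := by linear_combination w * h2
  have a8 : w + 1 + (w + 1) = 0 := add_self hF _
  have s1 : w ^ 2 = w + 1 := by linear_combination hw - (w + 1) * h2
  have s2 : (w + 1) ^ 2 = w := by linear_combination hw
  have s3 : (w * w) ^ 2 = w := by rw [← pow_two, s1, s2]
  have s4 : ((w + 1) * (w + 1)) ^ 2 = w + 1 := by rw [← pow_two, s2, s1]
  have s5 : (w * (w + 1)) ^ 2 = 1 := by rw [mul_pow, s1, s2]; linear_combination hw - two_zero hF
  have s6 : ((w + 1) * w) ^ 2 = 1 := by rw [mul_comm]; exact s5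
  have key : ∀ x y, t (x + y) = t x + t y + (t ((x * y) ^ 2) + t ((x * y) ^ 2)) := by
    intro x y
    rcases hall x with rfl | rfl | rfl | rfl <;> rcases hall y with rfl | rfl | rfl | rfl <;>
      simp only [zero_add, add_zero, mul_zero, zero_mul, one_mul, mul_one, zero_pow two_ne_zero,
        one_pow, a1, a2, a3, a4, a5, a6, a7, a8, s1, s2, s3, s4, s5, s6, t0, t1, tw, tv] <;>
      decide
  have h4 : ∀ v : R4, v + v + (v + v) = 0 := by decide
  refine ⟨t, AddMonoidHom.mk' (fun x => t x + t x) fun x y => ?_, t0, ?_, fun x => rfl,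
    fun x y => key x y⟩
  · rw [key x y]
    have := h4 (t ((x * y) ^ 2))
    calc t x + t y + (t ((x * y) ^ 2) + t ((x * y) ^ 2)) +
          (t x + t y + (t ((x * y) ^ 2) + t ((x * y) ^ 2)))
        = t x + t x + (t y + t y) + (t ((x * y) ^ 2) + t ((x * y) ^ 2) +
            (t ((x * y) ^ 2) + t ((x * y) ^ 2))) := by abel
      _ = _ := by rw [this, add_zero]
  · rw [injective_iff_map_eq_zero]
    intro x hx
    have hx' : t x + t x = 0 := hx
    rcases hall x with rfl | rfl | rfl | rfl
    · rfl
    · rw [t1] at hx'; exact absurd hx' (by decide)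
    · rw [tw] at hx'; exact absurd hx' (by decide)
    · rw [tv] at hx'; exact absurd hx' (by decide)

omit hF in
/-- The cocycle in coordinates `(a, b, c)`. -/
def f (t : F → R4) (two : F →+ R4) (p q : F × F × F) : R4 :=
  t (p.1 * q.2.1 ^ 2) + two (((p.2.2 + p.1 * q.2.1) * q.1) ^ 2) + two (q.2.1 * p.2.2)

omit hF in
/-- The product in coordinates. -/
def umul (p q : F × F × F) : F × F × F :=
  (p.1 + q.1, p.2.1 + q.2.1, p.2.2 + q.2.2 + p.1 * q.2.1)

theorem f_cocycle {t : F → R4} {two : F →+ R4}
    (ht : ∀ x y, t (x + y) = t x + t y + two ((x * y) ^ 2)) (p q r : F × F × F) :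
    f t two p q + f t two (umul p q) r = f t two p (umul q r) + f t two q r := by
  obtain ⟨a, b, c⟩ := p
  obtain ⟨a', b', c'⟩ := q
  obtain ⟨a'', b'', c''⟩ := r
  simp only [f, umul]
  have e1 : (a + a') * b'' ^ 2 = a * b'' ^ 2 + a' * b'' ^ 2 := add_mul _ _ _
  have e2 : a * (b' + b'') ^ 2 = a * b' ^ 2 + a * b'' ^ 2 := by
    linear_combination a * b' * b'' * two_zero hF
  rw [e1, e2, ht, ht]
  have key : ∀ T1 T2 T3 X Y : R4, X = Y → T1 + T2 + T3 + X = T1 + T2 + T3 + Y := fun _ _ _ _ _ h =>
    by rw [h]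
  calc _ = t (a * b' ^ 2) + t (a * b'' ^ 2) + t (a' * b'' ^ 2) +
        two (((c + a * b') * a') ^ 2 + b' * c + (a * b'' ^ 2 * (a' * b'' ^ 2)) ^ 2 +
          ((c + c' + a * b' + (a + a') * b'') * a'') ^ 2 + b'' * (c + c' + a * b')) := by
        simp only [map_add]; abel
    _ = t (a * b' ^ 2) + t (a * b'' ^ 2) + t (a' * b'' ^ 2) +
        two ((a * b' ^ 2 * (a * b'' ^ 2)) ^ 2 + ((c + a * (b' + b'')) * (a' + a'')) ^ 2 +
          (b' + b'') * c + ((c' + a' * b'') * a'') ^ 2 + b'' * c') := by
        refine key _ _ _ _ _ (congrArg two ?_)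
        have h2 := two_zero hF
        have hb := pow_four hF b''
        have hb' := pow_four hF b'
        have ha := pow_four hF a
        ring_nf
        rw [show b'' ^ 8 = b'' ^ 2 by rw [show b'' ^ 8 = (b'' ^ 4) ^ 2 by ring, hb],
          show a ^ 4 = a from ha, hb, hb']
        ring_nf
        simp only [h2, mul_zero, zero_mul, add_zero, zero_add,
          show (4 : F) = 0 by linear_combination 2 * h2, show (6 : F) = 0 by linear_combination 3 * h2]
        try ring
    _ = _ := by simp only [map_add]; abel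

end Cfsg.Agent.Mult93.L34
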