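import Cfsg.Agent.Mult93.L34.Pair
import Cfsg.Agent.Mult93.Local

/-!
The two-part of the kernel of a central extension of a quotient of `SL₃` over four elements
(helper93).
-/

set_option autoImplicit false

namespace Cfsg.Agent.Mult93.L34

open Subgroup
open scoped commutatorElement

universe u v w

theorem exists_bound {F : Type w} [Field F] [Fintype F] (hF : Fintype.card F = 4)
    {Γ : Type u} [Group Γ] {G : Type v} [Group G] (σ : Γ →* G) (hσ : Function.Surjective σ)
    (hc : σ.ker ≤ center Γ) (ι : Matrix.SpecialLinearGroup (Fin 3) F →* G)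
    (hι : Function.Surjective ι) :
    ∃ π : Multiplicative (ZMod 4 × ZMod 4) →* Γ, π.range ≤ σ.ker ⊓ commutator Γ ∧
      (∃ S : Subgroup G, Odd S.index ∧
        ∀ x ∈ σ.ker ⊓ ⁅S.comap σ, S.comap σ⁆, x ^ 3 ∈ π.range) ∧
      ∀ (a c : F) (x y : Γ), σ x = ι (ut (a, 0, 0)) → σ y = ι (ut (0, 0, c)) →
        ∃ z, π z * π z = ⁅x, y⁆ := by
  classical
  obtain ⟨ω, hω, hall⟩ := exists_omega hF
  have hw0 : ω ≠ 0 := by rintro rfl; simp at hω
  have hw1 : ω + 1 ≠ 0 := fun h => one_ne_zero (show (1 : F) = 0 by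
    linear_combination hω - ω * h)
  let A : F → G := fun a => ι (ut (a, 0, 0))
  let B : F → G := fun b => ι (ut (0, b, 0))
  let C : F → G := fun c => ι (ut (0, 0, c))
  have hadd : ∀ p q : F × F × F, ι (ut (umul p q)) = ι (ut p) * ι (ut q) := fun p q => by
    rw [← map_mul, ut_mul]
  have hA : ∀ a a', A (a + a') = A a * A a' := fun a a' => by
    show ι (ut (a + a', 0, 0)) = ι _ * ι _; rw [← hadd]; simp [umul]
  have hB : ∀ a a', B (a + a') = B a * B a' := fun a a' => by
    show ι (ut (0, a + a', 0)) = ι _ * ι _; rw [← hadd]; simp [umul]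
  have hC : ∀ a a', C (a + a') = C a * C a' := fun a a' => by
    show ι (ut (0, 0, a + a')) = ι _ * ι _; rw [← hadd]; simp [umul]
  have hAC : ∀ a c, Commute (A a) (C c) := fun a c => by
    show ι _ * ι _ = ι _ * ι _; rw [← hadd, ← hadd]; simp [umul]
  have hBC : ∀ a c, Commute (B a) (C c) := fun a c => by
    show ι _ * ι _ = ι _ * ι _; rw [← hadd, ← hadd]; simp [umul]
  have hconj : ∀ g h : Matrix.SpecialLinearGroup (Fin 3) F, ι g * ι h * (ι g)⁻¹ = ι (g * h * g⁻¹) :=
    fun g h => by rw [map_mul, map_mul, map_inv]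
  let p : F → Γ := fun a => Function.surjInv hσ (A a)
  let q : F → Γ := fun b => Function.surjInv hσ (B b)
  let r : F → Γ := fun c => Function.surjInv hσ (C c)
  have hp : ∀ a, σ (p a) = A a := fun a => Function.surjInv_eq hσ _
  have hq : ∀ b, σ (q b) = B b := fun b => Function.surjInv_eq hσ _
  have hr : ∀ c, σ (r c) = C c := fun c => Function.surjInv_eq hσ _
  obtain ⟨hpp, hrr, L, hL, hLk, hLadd, hLsq⟩ := exists_pairing hc hσ hF A C hA hC hAC
    (fun k hk => ⟨ι (tor hF hk), fun a => by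
        show ι _ * ι _ * _ = ι _; rw [hconj, tor_conj, mul_zero, mul_zero],
      fun c => by show ι _ * ι _ * _ = ι _; rw [hconj, tor_conj, mul_zero]⟩)
    ⟨ι (swap23 hF), fun a => by show ι _ * ι _ * _ = ι _; rw [hconj, swap23_conj]⟩
    ⟨ι (ut (0, 1, 0)), fun a => by
        show ι _ * ι _ * _ = ι _ * ι _; rw [hconj, shear_left hF, map_mul]⟩ p r hp hr
  obtain ⟨hqq, -, M, hM, hMk, hMadd, hMsq⟩ := exists_pairing hc hσ hF B C hB hC hBC
    (fun k hk => ⟨ι (tor hF hk), fun a => by
        show ι _ * ι _ * _ = ι _; rw [hconj, tor_conj, mul_zero, mul_zero],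
      fun c => by show ι _ * ι _ * _ = ι _; rw [hconj, tor_conj, mul_zero]⟩)
    ⟨ι (swap12 hF), fun a => by show ι _ * ι _ * _ = ι _; rw [hconj, swap12_conj]⟩
    ⟨ι (ut (1, 0, 0)), fun a => by
        show ι _ * ι _ * _ = ι _ * ι _; rw [hconj, shear_right hF, map_mul]⟩ q r hq hr
  have hL0 : L 0 = 1 := by simpa using hLadd 0 0
  have hM0 : M 0 = 1 := by simpa using hMadd 0 0
  -- the commutators of lifts of the two simple root groups
  let u : F → F → Γ := fun a b => ⁅p a, q b⁆
  have hσu : ∀ a b, σ (u a b) = C (a * b) := fun a b => by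
    rw [map_commutatorElement, hp, hq, commutatorElement_def, mul_inv_eq_iff_eq_mul,
      mul_inv_eq_iff_eq_mul]
    show ι _ * ι _ = ι _ * ι _ * ι _
    rw [← hadd, ← hadd, ← hadd]
    simp [umul]
  have hur : ∀ a b, σ (u a b) = σ (r (a * b)) := fun a b => by rw [hσu, hr]
  have huu : ∀ a b a' b', Commute (u a b) (u a' b') := fun a b a' b' => by
    rw [← commutatorElement_eq_one_iff_commute, comm_congr hc (hur a b) (hur a' b'), hrr]
  have hpu : ∀ a a' b, p a * u a' b * (p a)⁻¹ = L (a * (a' * b)) * u a' b := fun a a' b => by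
    rw [← hL, ← comm_congr hc (v := p a) rfl (hur a' b), commutatorElement_def,
      inv_mul_cancel_right]
  have hqu : ∀ b a b', q b * u a b' * (q b)⁻¹ = M (b * (a * b')) * u a b' := fun b a b' => by
    rw [← hM, ← comm_congr hc (v := q b) rfl (hur a b'), commutatorElement_def,
      inv_mul_cancel_right]
  have hu_left : ∀ a a' b, u (a + a') b = L (a * (a' * b)) * u a' b * u a b := fun a a' b => by
    rw [← hpu]
    show ⁅p (a + a'), q b⁆ = p a * ⁅p a', q b⁆ * (p a)⁻¹ * ⁅p a, q b⁆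
    rw [comm_congr hc (show σ (p (a + a')) = σ (p a * p a') by rw [map_mul, hp, hp, hp, hA]) rfl]
    simp only [commutatorElement_def]; group
  have hu_right : ∀ a b b', u a (b + b') = u a b * (M (b * (a * b')) * u a b') := fun a b b' => by
    rw [← hqu]
    show ⁅p a, q (b + b')⁆ = ⁅p a, q b⁆ * (q b * ⁅p a, q b'⁆ * (q b)⁻¹)
    rw [comm_congr hc rfl (show σ (q (b + b')) = σ (q b * q b') by rw [map_mul, hq, hq, hq, hB])]
    simp only [commutatorElement_def]; group
  have hu0 : ∀ b, u 0 b = 1 := fun b => by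
    show ⁅p 0, q b⁆ = 1
    rw [comm_congr hc (show σ (p 0) = σ 1 by rw [hp, map_one]; simpa using hA 0 0) rfl,
      commutatorElement_one_left]
  have hu0' : ∀ a, u a 0 = 1 := fun a => by
    show ⁅p a, q 0⁆ = 1
    rw [comm_congr hc rfl (show σ (q 0) = σ 1 by rw [hq, map_one]; simpa using hB 0 0),
      commutatorElement_one_right]
  have husq : ∀ a b, u a b * u a b = L (a ^ 2 * b) := fun a b => by
    have h := hu_left a a b
    rw [add_self hF, hu0, mul_assoc] at h
    rw [sq, mul_assoc]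
    rw [show L (a * (a * b)) = (L (a * (a * b)))⁻¹ from (inv_eq_of_mul_eq_one_right (hLsq _)).symm]
    exact (inv_eq_of_mul_eq_one_right h.symm).symm
  have husq' : ∀ a b, u a b * u a b = M (a * b ^ 2) := fun a b => by
    have h := hu_right a b b
    rw [add_self hF, hu0', ← ker_comm hc (hMk _) (u a b), ← mul_assoc] at h
    rw [show a * b ^ 2 = b * (a * b) by ring, eq_inv_of_mul_eq_one_left h.symm]
    exact inv_eq_of_mul_eq_one_right (hMsq _)
  have hLM : ∀ x, L x = M (x ^ 2) := fun x => by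
    have h := (husq 1 x).symm.trans (husq' 1 x)
    simpa using h
  -- the three torus conjugates
  let t : Γ := Function.surjInv hσ (ι (tor hF hw0))
  have ht : σ t = ι (tor hF hw0) := Function.surjInv_eq hσ _
  have htu : ∀ a b, t * u a b * t⁻¹ = u (ω * a) (ω * b) := fun a b => by
    show t * ⁅p a, q b⁆ * t⁻¹ = ⁅p (ω * a), q (ω * b)⁆
    rw [show t * ⁅p a, q b⁆ * t⁻¹ = ⁅t * p a * t⁻¹, t * q b * t⁻¹⁆ by
      simp only [commutatorElement_def]; group]
    refine comm_congr hc ?_ ?_ <;> rw [map_mul, map_mul, map_inv, ht]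
    · rw [hp, hp]; show ι _ * ι _ * _ = ι _; rw [hconj, tor_conj, mul_zero, mul_zero]
    · rw [hq, hq]; show ι _ * ι _ * _ = ι _; rw [hconj, tor_conj, mul_zero, mul_zero]
  let φ : F → F → Γ := fun a b => u a b * u (ω * a) (ω * b) * u (ω * (ω * a)) (ω * (ω * b))
  have hφk : ∀ a b, φ a b ∈ σ.ker := fun a b => by
    rw [MonoidHom.mem_ker, map_mul, map_mul, hσu, hσu, hσu, ← hC, ← hC]
    have : a * b + ω * a * (ω * b) + ω * (ω * a) * (ω * (ω * b)) = 0 := by
      linear_combination (a * b) * (ω ^ 2 - ω + 1) * hω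
    rw [this]
    simpa using hC 0 0
  have hw3 : ω ^ 3 = 1 := pow_three hF hw0
  have hφw : ∀ a b, φ (ω * a) (ω * b) = φ a b := fun a b => by
    show _ * _ * u (ω * (ω * (ω * a))) (ω * (ω * (ω * b))) = _
    rw [show ω * (ω * (ω * a)) = a by linear_combination a * hw3,
      show ω * (ω * (ω * b)) = b by linear_combination b * hw3]
    show _ = u a b * u (ω * a) (ω * b) * u (ω * (ω * a)) (ω * (ω * b))
    rw [mul_assoc (u a b)]
    exact ((huu _ _ _ _).mul_right (huu _ _ _ _)).eq.symm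
  have hφadd : ∀ b b', φ 1 (b + b') = φ 1 b * φ 1 b' * M (b * b') := by
    intro b b'
    have e : ∀ k : F, k ^ 3 = 1 → u (k * 1) (k * (b + b')) =
        M (b * b') * (u (k * 1) (k * b) * u (k * 1) (k * b')) := fun k hk => by
      rw [mul_add, hu_right, show k * b * (k * 1 * (k * b')) = b * b' by
        linear_combination (b * b') * hk, ← mul_assoc, ker_comm hc (hMk _), mul_assoc]
    have e1 := e 1 (one_pow 3)
    have e2 := e ω hw3
    have e3 := e (ω * ω) (by linear_combination (ω ^ 3 + 1) * hw3)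
    simp only [one_mul, mul_assoc ω ω] at e1 e2 e3
    show u 1 (b + b') * u (ω * 1) (ω * (b + b')) * u (ω * (ω * 1)) (ω * (ω * (b + b'))) = _
    rw [e1, e2, e3]
    set m := M (b * b')
    have hmc : ∀ g, Commute m g := fun g => (ker_comm hc (hMk _) g).symm
    set x1 := u 1 b
    set x2 := u (ω * 1) (ω * b)
    set x3 := u (ω * (ω * 1)) (ω * (ω * b))
    set y1 := u 1 b'
    set y2 := u (ω * 1) (ω * b')
    set y3 := u (ω * (ω * 1)) (ω * (ω * b'))
    show _ = x1 * x2 * x3 * (y1 * y2 * y3) * m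
    calc m * (x1 * y1) * (m * (x2 * y2)) * (m * (x3 * y3))
        = m * (m * (x1 * y1) * (x2 * y2)) * (m * (x3 * y3)) := by
          rw [mul_assoc m (x1 * y1), ← mul_assoc (x1 * y1) m, ← (hmc (x1 * y1)).eq]
      _ = m * m * (x1 * y1 * (x2 * y2)) * (m * (x3 * y3)) := by simp only [mul_assoc]
      _ = x1 * y1 * (x2 * y2) * (x3 * y3) * m := by
          rw [hMsq, one_mul, (hmc (x3 * y3)).eq, ← mul_assoc]
      _ = x1 * x2 * (y1 * y2) * (x3 * y3) * m := by
          rw [(huu _ _ _ _).mul_mul_mul_comm x1 y2]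
      _ = x1 * x2 * x3 * (y1 * y2 * y3) * m := by
          rw [Commute.mul_mul_mul_comm
            ((huu _ _ _ _).mul_left (huu _ _ _ _)) (x1 * x2) y3]
  have hφsq : ∀ b, φ 1 b * φ 1 b = M (b ^ 2) := fun b => by
    have h := hφadd b b
    rw [add_self hF, show b * b = b ^ 2 from (sq b).symm] at h
    have h0 : φ 1 0 = 1 := by
      show u 1 0 * u (ω * 1) (ω * 0) * u (ω * (ω * 1)) (ω * (ω * 0)) = 1
      simp only [mul_zero, hu0', one_mul]
    rw [h0] at h
    rw [eq_inv_of_mul_eq_one_left h.symm]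
    exact inv_eq_of_mul_eq_one_right (hMsq _)
  have hfour : ∀ b, φ 1 b ^ 4 = 1 := fun b => by
    rw [show 4 = 2 * 2 from rfl, pow_mul, sq, sq, hφsq, hMsq]
  have hcomm : Commute (φ 1 1) (φ 1 ω) := (ker_comm hc (hφk 1 1) _).symm
  let π : Multiplicative (ZMod 4 × ZMod 4) →* Γ := MonoidHom.mk'
    (fun v => φ 1 1 ^ v.toAdd.1.val * φ 1 ω ^ v.toAdd.2.val) fun v w => by
      have key : ∀ g : Γ, g ^ 4 = 1 → ∀ i j : ZMod 4, g ^ (i + j).val = g ^ i.val * g ^ j.val :=
        fun g hg i j => by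
          rw [ZMod.val_add, ← pow_add, ← pow_eq_pow_mod _ hg]
      show φ 1 1 ^ (v.toAdd.1 + w.toAdd.1).val * φ 1 ω ^ (v.toAdd.2 + w.toAdd.2).val = _
      rw [key _ (hfour 1), key _ (hfour ω)]
      exact (hcomm.pow_pow _ _).mul_mul_mul_comm _ _
  have hπ1 : φ 1 1 ∈ π.range := ⟨Multiplicative.ofAdd (1, 0), by
    show φ 1 1 ^ (1 : ZMod 4).val * φ 1 ω ^ (0 : ZMod 4).val = _
    simp [show (1 : ZMod 4).val = 1 from rfl]⟩
  have hπw : φ 1 ω ∈ π.range := ⟨Multiplicative.ofAdd (0, 1), by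
    show φ 1 1 ^ (0 : ZMod 4).val * φ 1 ω ^ (1 : ZMod 4).val = _
    simp [show (1 : ZMod 4).val = 1 from rfl]⟩
  have hφ10 : φ 1 0 = 1 := by
    show u 1 0 * u (ω * 1) (ω * 0) * u (ω * (ω * 1)) (ω * (ω * 0)) = 1
    simp only [mul_zero, hu0', one_mul]
  have hφ1 : ∀ b, φ 1 b ∈ π.range := by
    intro b
    rcases hall b with h | h | h | h <;> rw [h]
    · rw [hφ10]; exact one_mem _
    · exact hπ1
    · exact hπw
    · rw [hφadd]
      refine mul_mem (mul_mem hπw hπ1) ?_
      rw [mul_one, show ω = (ω + 1) ^ 2 by linear_combination -hω - two_zero hF * 0,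
        show (ω + 1) ^ 2 = 1 ^ 2 + ω ^ 2 by linear_combination ω * two_zero hF,
        hMadd, ← hφsq, ← hφsq]
      exact mul_mem (mul_mem hπ1 hπ1) (mul_mem hπw hπw)
  have hφall : ∀ a b, φ a b ∈ π.range := by
    intro a b
    rcases hall a with h | h | h | h <;> rw [h]
    · show u 0 b * u (ω * 0) (ω * b) * u (ω * (ω * 0)) (ω * (ω * b)) ∈ _
      simp only [mul_zero, hu0, one_mul]; exact one_mem _
    · exact hφ1 b
    · have := hφ1 (ω * (ω * b))
      rw [← hφw] at this
      rwa [mul_one, show ω * (ω * (ω * b)) = b by linear_combination b * hw3] at this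
    · have := hφ1 (ω * b)
      rw [← hφw, ← hφw] at this
      rwa [mul_one, show ω * ω = ω + 1 by linear_combination hω - (ω + 1) * two_zero hF,
        show ω * (ω * (ω * b)) = b by linear_combination b * hw3] at this
  refine ⟨π, ?_, ⟨(closure (σ '' (Set.range p ∪ Set.range q))), ?_, ?_⟩, ?_⟩
  · have hmem : ∀ a b, φ a b ∈ σ.ker ⊓ commutator Γ := fun a b => ⟨hφk a b,
      mul_mem (mul_mem (commutator_mem_commutator (mem_top _) (mem_top _))
        (commutator_mem_commutator (mem_top _) (mem_top _)))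
        (commutator_mem_commutator (mem_top _) (mem_top _))⟩
    rintro _ ⟨v, rfl⟩
    exact mul_mem (pow_mem (hmem _ _) _) (pow_mem (hmem _ _) _)
  · have hle : (utGroup F).map ι ≤ closure (σ '' (Set.range p ∪ Set.range q)) := by
      rintro _ ⟨_, ⟨⟨a, b, c⟩, rfl⟩, rfl⟩
      have mA : ∀ a, A a ∈ closure (σ '' (Set.range p ∪ Set.range q)) := fun a =>
        subset_closure ⟨p a, Or.inl ⟨a, rfl⟩, hp a⟩
      have mB : ∀ b, B b ∈ closure (σ '' (Set.range p ∪ Set.range q)) := fun b =>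
        subset_closure ⟨q b, Or.inr ⟨b, rfl⟩, hq b⟩
      have mC : C (a * b + c) ∈ closure (σ '' (Set.range p ∪ Set.range q)) := by
        rw [show C (a * b + c) = ⁅A 1, B (a * b + c)⁆ by
          rw [← hp, ← hq, ← map_commutatorElement, hσu, one_mul]]
        exact mul_mem (mul_mem (mul_mem (mA _) (mB _)) (inv_mem (mA _))) (inv_mem (mB _))
      have : ι (ut (a, b, c)) = A a * B b * C (a * b + c) := by
        show _ = ι _ * ι _ * ι _
        rw [← hadd, ← hadd]
        simp [umul, ← add_assoc, add_self hF]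
      rw [this]
      exact mul_mem (mul_mem (mA a) (mB b)) mC
    refine Nat.Coprime.odd_of_left (Nat.Coprime.coprime_dvd_right
      ((Subgroup.index_dvd_of_le hle).trans (Subgroup.index_map_dvd _ hι)) ?_)
    rw [index_utGroup hF]
    decide
  · let N := closure (Set.range fun x : F × F => u x.1 x.2)
    have hNc : ∀ x ∈ N, ∀ y ∈ N, Commute x y := by
      intro x hx y hy
      induction hx, hy using closure_induction₂ with
      | mem x y hx hy =>
        obtain ⟨a, rfl⟩ := hx; obtain ⟨b, rfl⟩ := hy; exact huu _ _ _ _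
      | one_left y _ => exact Commute.one_left _
      | one_right x _ => exact Commute.one_right _
      | mul_left x y z _ _ _ h1 h2 => exact h1.mul_left h2
      | mul_right y z x _ _ _ h1 h2 => exact h1.mul_right h2
      | inv_left x y _ _ h => exact h.inv_left
      | inv_right x y _ _ h => exact h.inv_right
    have hLN : ∀ x, L x ∈ N := fun x => by
      have h := husq 1 x
      rw [one_pow, one_mul] at h
      rw [← h]
      exact mul_mem (subset_closure ⟨(1, x), rfl⟩) (subset_closure ⟨(1, x), rfl⟩)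
    have hMN : ∀ x, M x ∈ N := fun x => by
      rw [← pow_four hF x, show x ^ 4 = (x ^ 2) ^ 2 by ring, ← hLM]; exact hLN _
    have hconjN : ∀ g : Γ, (∀ a b, g * u a b * g⁻¹ ∈ N) → ∀ x ∈ N, g * x * g⁻¹ ∈ N := by
      intro g hg x hx
      induction hx using closure_induction with
      | mem x hx => obtain ⟨v, rfl⟩ := hx; exact hg _ _
      | one => simp
      | mul a b _ _ ha hb => simpa [mul_assoc] using mul_mem ha hb
      | inv a _ ha => simpa [mul_assoc] using inv_mem ha
    have hgen : ∀ g ∈ Set.range p ∪ Set.range q, ∀ x ∈ N,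
        g * x * g⁻¹ ∈ N ∧ g⁻¹ * x * g ∈ N := by
      intro g hg x hx
      have h1 : ∀ y ∈ N, g * y * g⁻¹ ∈ N := by
        rcases hg with ⟨a, rfl⟩ | ⟨b, rfl⟩
        · exact hconjN _ fun a' b' => by rw [hpu]; exact mul_mem (hLN _) (subset_closure ⟨(a', b'), rfl⟩)
        · exact hconjN _ fun a' b' => by rw [hqu]; exact mul_mem (hMN _) (subset_closure ⟨(a', b'), rfl⟩)
      refine ⟨h1 x hx, ?_⟩
      have hz : g * g ∈ σ.ker := by
        rw [MonoidHom.mem_ker, map_mul]
        rcases hg with ⟨a, rfl⟩ | ⟨b, rfl⟩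
        · rw [hp, ← hA, add_self hF]; simpa using hA 0 0
        · rw [hq, ← hB, add_self hF]; simpa using hB 0 0
      have : g⁻¹ * x * g = g * x * g⁻¹ := by
        calc g⁻¹ * x * g = g⁻¹ * (x * (g * g)) * g⁻¹ := by group
          _ = g⁻¹ * (g * g * x) * g⁻¹ := by rw [ker_comm hc hz x]
          _ = _ := by group
      rw [this]; exact h1 x hx
    have hcm : ∀ s ∈ Set.range p ∪ Set.range q, ∀ s' ∈ Set.range p ∪ Set.range q, ⁅s, s'⁆ ∈ N := by
      rintro _ (⟨a, rfl⟩ | ⟨a, rfl⟩) _ (⟨b, rfl⟩ | ⟨b, rfl⟩)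
      · rw [hpp]; exact one_mem _
      · exact subset_closure ⟨(a, b), rfl⟩
      · rw [← commutatorElement_inv]; exact inv_mem (subset_closure ⟨(b, a), rfl⟩)
      · rw [hqq]; exact one_mem _
    have hN := Cfsg.Agent.Mult93.commutator_comap_le σ hc _ N hgen hcm
    have htN : ∀ x ∈ N, t * x * t⁻¹ ∈ N := hconjN t fun a b => by
      rw [htu]; exact subset_closure ⟨(_, _), rfl⟩
    have key : ∀ x ∈ N, x * (t * x * t⁻¹) * (t * (t * x * t⁻¹) * t⁻¹) ∈ π.range := by
      intro x hx
      induction hx using closure_induction with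
      | mem x hx => obtain ⟨v, rfl⟩ := hx; rw [htu, htu]; exact hφall _ _
      | one => simp
      | mul a b ha hb iha ihb =>
        have := mul_mem iha ihb
        have e : a * b * (t * (a * b) * t⁻¹) * (t * (t * (a * b) * t⁻¹) * t⁻¹) =
            a * (t * a * t⁻¹) * (t * (t * a * t⁻¹) * t⁻¹) *
              (b * (t * b * t⁻¹) * (t * (t * b * t⁻¹) * t⁻¹)) := by
          have e1 : t * (a * b) * t⁻¹ = t * a * t⁻¹ * (t * b * t⁻¹) := by group
          rw [e1, show t * (t * a * t⁻¹ * (t * b * t⁻¹)) * t⁻¹ =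
            t * (t * a * t⁻¹) * t⁻¹ * (t * (t * b * t⁻¹) * t⁻¹) by group,
            (hNc b hb _ (htN a ha)).mul_mul_mul_comm a,
            (hNc _ (mul_mem hb (htN b hb)) _ (htN _ (htN a ha))).mul_mul_mul_comm
              (a * (t * a * t⁻¹))]
        rw [e]; exact this
      | inv a ha iha =>
        have := inv_mem iha
        have e : a⁻¹ * (t * a⁻¹ * t⁻¹) * (t * (t * a⁻¹ * t⁻¹) * t⁻¹) =
            (a * (t * a * t⁻¹) * (t * (t * a * t⁻¹) * t⁻¹))⁻¹ := by
          rw [(hNc _ ha _ (htN a ha)).eq,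
            (hNc _ (mul_mem (htN a ha) ha) _ (htN _ (htN a ha))).eq]
          group
        rw [e]; exact this
    rintro x ⟨hxk, hx⟩
    have h := key x (hN hx)
    rwa [ker_comm hc hxk t, mul_inv_cancel_right, ker_comm hc hxk t, mul_inv_cancel_right,
      ← pow_three'] at h
  · intro a c x y hx hy
    obtain ⟨z, hz⟩ := hφ1 (a * c)
    refine ⟨z, ?_⟩
    rw [hz, hφsq, ← hLM, ← hL]
    exact comm_congr hc (by rw [hx, hp]) (by rw [hy, hr])

end Cfsg.Agent.Mult93.L34
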