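import Mathlib
import Cfsg.Agent.Mult93.Sz8Ext

/-!
Corestriction of a cocycle from a subgroup, and its commutator pairing on two commuting
involutions: only the cosets fixed by both contribute (helper93).
-/

set_option autoImplicit false

namespace Cfsg.Agent.Mult93.L34

universe u v

variable {G : Type u} [Group G] {S : Subgroup G}

/-- The transfer component. -/
noncomputable def tau (g : G) (o : G ⧸ S) : S :=
  ⟨(g • o).out⁻¹ * g * o.out, by
    have h : ((g • o).out : G ⧸ S) = ((g * o.out : G) : G ⧸ S) := by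
      rw [QuotientGroup.out_eq']
      conv_lhs => rw [← QuotientGroup.out_eq' o]
      rfl
    rw [mul_assoc]
    exact QuotientGroup.eq.1 h⟩

theorem tau_mul (g h : G) (o : G ⧸ S) : tau (g * h) o = tau g (h • o) * tau h o := by
  refine Subtype.ext ?_
  show ((g * h) • o).out⁻¹ * (g * h) * o.out =
    (g • h • o).out⁻¹ * g * (h • o).out * ((h • o).out⁻¹ * h * o.out)
  rw [mul_smul]
  group

theorem tau_one (o : G ⧸ S) : tau 1 o = 1 :=
  Subtype.ext (show (((1 : G) • o).out⁻¹ * 1 * o.out : G) = 1 by
    rw [one_smul, mul_one, inv_mul_cancel])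

theorem tau_fixed {g : G} {o : G ⧸ S} (h : g • o = o) :
    (tau g o : G) = o.out⁻¹ * g * o.out := by
  show (g • o).out⁻¹ * g * o.out = _
  rw [h]

variable [Fintype (G ⧸ S)] {A : Type v} [AddCommGroup A] (c : S → S → A)

/-- The corestricted cocycle. -/
noncomputable def cor (g h : G) : A := ∑ o : G ⧸ S, c (tau g (h • o)) (tau h o)

variable (h1 : ∀ s, c 1 s = 0) (h2 : ∀ s, c s 1 = 0)
  (h3 : ∀ a b d, c a b + c (a * b) d = c a (b * d) + c b d)

include h1 in
theorem cor_one_left (g : G) : cor c 1 g = 0 :=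
  Finset.sum_eq_zero fun o _ => by rw [tau_one, h1]

include h2 in
theorem cor_one_right (g : G) : cor c g 1 = 0 :=
  Finset.sum_eq_zero fun o _ => by rw [tau_one, h2]

include h3 in
theorem cor_cocycle (g h k : G) :
    cor c g h + cor c (g * h) k = cor c g (h * k) + cor c h k := by
  have e : cor c g h = ∑ o : G ⧸ S, c (tau g (h • k • o)) (tau h (k • o)) :=
    (Equiv.sum_comp (MulAction.toPerm k : Equiv.Perm (G ⧸ S))
      (fun o => c (tau g (h • o)) (tau h o))).symm
  rw [e]
  simp only [cor, ← Finset.sum_add_distrib]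
  refine Finset.sum_congr rfl fun o _ => ?_
  rw [tau_mul g h, tau_mul h k, mul_smul]
  exact h3 _ _ _

/-- The contribution of one coset to the pairing. -/
noncomputable def term (x y : G) (o : G ⧸ S) : A :=
  c (tau x (y • o)) (tau y o) - c (tau y (x • o)) (tau x o)

include h1 h2 h3 in
theorem term_pair {x y : G} (hxy : x * y = y * x) (hx : x * x = 1) (o : G ⧸ S) :
    term c x y o + term c x y (x • o) =
      c (tau x (x • y • o)) (tau x (y • o)) - c (tau x (x • o)) (tau x o) := by
  have hxx : ∀ p : G ⧸ S, x • x • p = p := fun p => by rw [← mul_smul, hx, one_smul]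
  have hc : ∀ p : G ⧸ S, x • y • p = y • x • p := fun p => by rw [← mul_smul, ← mul_smul, hxy]
  have r1 : tau x (y • o) * tau y o = tau y (x • o) * tau x o := by
    rw [← tau_mul, ← tau_mul, hxy]
  have r2 : tau x (x • y • o) * tau y (x • o) = tau y o * tau x (x • o) := by
    have h := tau_mul x y (x • o)
    rw [hxy, tau_mul y x (x • o), hxx, ← hc] at h
    exact h.symm
  have r3 : tau x (x • y • o) * tau x (y • o) = 1 := by rw [← tau_mul, hx, tau_one]
  have r4 : tau x (x • o) * tau x o = 1 := by rw [← tau_mul, hx, tau_one]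
  simp only [term, ← hc o, ← hc (x • o), hxx]
  set P := tau x (y • o)
  set Q := tau x (x • y • o)
  set Y0 := tau y o
  set Y1 := tau y (x • o)
  set X1 := tau x o
  set X2 := tau x (x • o)
  have e1 := h3 Q P Y0
  rw [r3, h1, add_zero] at e1
  have e2 := h3 Q Y1 X1
  have e3 := h3 Y0 X2 X1
  rw [r4, h2, zero_add] at e3
  rw [r2, ← r1] at e2
  rw [e1, ← e3]
  have : c Q Y1 = c Q (P * Y0) + c Y1 X1 - c (Y0 * X2) X1 := by rw [← e2]; abel
  rw [this]; abel

include h1 h2 h3 in
theorem sum_moved [DecidableEq (G ⧸ S)] {x y : G} (hxy : x * y = y * x) (hx : x * x = 1)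
    (Q : G ⧸ S → Prop) [DecidablePred Q] (hQx : ∀ o, Q o → Q (x • o))
    (hQy : ∀ o, Q o → Q (y • o)) :
    ∑ o ∈ Finset.univ.filter (fun o : G ⧸ S => x • o ≠ o ∧ Q o), term c x y o = 0 := by
  have hxx : ∀ p : G ⧸ S, x • x • p = p := fun p => by rw [← mul_smul, hx, one_smul]
  have hc : ∀ p : G ⧸ S, x • y • p = y • x • p := fun p => by rw [← mul_smul, ← mul_smul, hxy]
  let e := Fintype.equivFin (G ⧸ S)
  let M := Finset.univ.filter (fun o : G ⧸ S => x • o ≠ o ∧ Q o)
  let P := M.filter (fun o => e o < e (x • o))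
  let z : G ⧸ S → A := fun o => c (tau x (x • o)) (tau x o)
  have hz : ∀ o, z (x • o) = z o := by
    intro o
    have r4 : tau x (x • o) * tau x o = 1 := by rw [← tau_mul, hx, tau_one]
    have r5 : tau x o * tau x (x • o) = 1 := by
      have h := tau_mul x x (x • o)
      rw [hxx, hx, tau_one] at h
      exact h.symm
    show c (tau x (x • x • o)) (tau x (x • o)) = c (tau x (x • o)) (tau x o)
    rw [hxx]
    have e := h3 (tau x o) (tau x (x • o)) (tau x o)
    rw [r4, r5, h1, h2, add_zero, zero_add] at e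
    exact e
  have hM : ∀ o, o ∈ M ↔ x • o ≠ o ∧ Q o := fun o => by simp [M]
  have hMx : ∀ o ∈ M, x • o ∈ M := fun o ho => by
    rw [hM] at ho ⊢
    exact ⟨fun h => ho.1 (by rw [hxx] at h; exact h.symm), hQx o ho.2⟩
  have hMy : ∀ o ∈ M, y • o ∈ M := fun o ho => by
    rw [hM] at ho ⊢
    exact ⟨fun h => ho.1 (smul_left_cancel y (by rw [← hc]; exact h)), hQy o ho.2⟩
  have hne : ∀ o ∈ M, e o ≠ e (x • o) := fun o ho h => ((hM o).1 ho).1 (e.injective h).symm
  have hsum : ∑ o ∈ M, term c x y o = ∑ o ∈ P, (term c x y o + term c x y (x • o)) := by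
    rw [Finset.sum_add_distrib,
      ← Finset.sum_filter_add_sum_filter_not M (fun o => e o < e (x • o))]
    congr 1
    refine Finset.sum_bij' (fun o _ => x • o) (fun o _ => x • o) ?_ ?_ (fun o _ => hxx o)
      (fun o _ => hxx o) (fun o _ => by rw [hxx])
    · intro o ho
      rw [Finset.mem_filter] at ho
      refine Finset.mem_filter.2 ⟨hMx o ho.1, ?_⟩
      rw [hxx]
      exact lt_of_le_of_ne (not_lt.1 ho.2) (hne o ho.1).symm
    · intro o ho
      rw [Finset.mem_filter] at ho
      refine Finset.mem_filter.2 ⟨hMx o ho.1, ?_⟩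
      rw [hxx]
      exact not_lt.2 ho.2.le
  show ∑ o ∈ M, term c x y o = 0
  rw [hsum, Finset.sum_congr rfl fun o _ => term_pair c h1 h2 h3 hxy hx o,
    Finset.sum_sub_distrib, sub_eq_zero]
  let ρ : G ⧸ S → G ⧸ S := fun o => if e (y • o) < e (x • y • o) then y • o else x • y • o
  have hρmem : ∀ o ∈ P, ρ o ∈ P := by
    intro o ho
    rw [Finset.mem_filter] at ho
    have hyM := hMy o ho.1
    show (if _ then _ else _) ∈ P
    split_ifs with h
    · exact Finset.mem_filter.2 ⟨hyM, h⟩
    · refine Finset.mem_filter.2 ⟨hMx _ hyM, ?_⟩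
      rw [hxx]
      exact lt_of_le_of_ne (not_lt.1 h) (hne _ hyM).symm
  have hρz : ∀ o, z (ρ o) = z (y • o) := fun o => by
    show z (if _ then _ else _) = _
    split_ifs
    · rfl
    · exact hz _
  have hρinj : ∀ o ∈ P, ∀ o' ∈ P, ρ o = ρ o' → o = o' := by
    intro o ho o' ho' h
    rw [Finset.mem_filter] at ho ho'
    have hcases : y • o = y • o' ∨ y • o = x • y • o' := by
      have h' : (if e (y • o) < e (x • y • o) then y • o else x • y • o) =
        (if e (y • o') < e (x • y • o') then y • o' else x • y • o') := h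
      split_ifs at h'
      · exact Or.inl h'
      · exact Or.inr h'
      · exact Or.inr (by rw [← h', hxx])
      · exact Or.inl (smul_left_cancel x h')
    rcases hcases with h1 | h1
    · exact smul_left_cancel y h1
    · rw [hc] at h1
      have h2 : o = x • o' := smul_left_cancel y h1
      subst h2
      rw [hxx] at ho
      exact absurd ho.2 (not_lt.2 ho'.2.le)
  have himg : P.image ρ = P := Finset.eq_of_subset_of_card_le
    (fun o ho => by obtain ⟨a, ha, rfl⟩ := Finset.mem_image.1 ho; exact hρmem a ha)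
    (le_of_eq (Finset.card_image_of_injOn fun a ha b hb => hρinj a ha b hb).symm)
  calc ∑ o ∈ P, c (tau x (x • y • o)) (tau x (y • o)) = ∑ o ∈ P, z (ρ o) :=
        Finset.sum_congr rfl fun o _ => (hρz o).symm
    _ = ∑ o ∈ P.image ρ, z o := (Finset.sum_image fun a ha b hb => hρinj a ha b hb).symm
    _ = _ := by rw [himg]

include h1 h2 h3 in
/-- Only the cosets fixed by both commuting involutions contribute. -/
theorem cor_pairing [DecidableEq (G ⧸ S)] {x y : G} (hxy : x * y = y * x) (hx : x * x = 1)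
    (hy : y * y = 1) :
    cor c x y - cor c y x =
      ∑ o ∈ Finset.univ.filter (fun o : G ⧸ S => x • o = o ∧ y • o = o),
        (c (tau x o) (tau y o) - c (tau y o) (tau x o)) := by
  have hc : ∀ p : G ⧸ S, x • y • p = y • x • p := fun p => by rw [← mul_smul, ← mul_smul, hxy]
  have hxx : ∀ p : G ⧸ S, x • x • p = p := fun p => by rw [← mul_smul, hx, one_smul]
  have htot : cor c x y - cor c y x = ∑ o : G ⧸ S, term c x y o := by
    simp only [cor, term, Finset.sum_sub_distrib]
  have ht : (fun o => term c y x o) = fun o => -term c x y o := by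
    funext o; simp only [term]; abel
  have h1' := sum_moved c h1 h2 h3 hxy hx (fun _ => True) (fun _ _ => trivial) (fun _ _ => trivial)
  have h2' := sum_moved c h1 h2 h3 hxy.symm hy (fun o => x • o = o)
    (fun o ho => by show x • y • o = y • o; rw [hc, ho]) (fun o ho => by show x • x • o = x • o; rw [ho, ho])
  rw [Finset.sum_congr rfl fun o _ => congrFun ht o, Finset.sum_neg_distrib, neg_eq_zero] at h2'
  rw [htot, ← Finset.sum_filter_add_sum_filter_not Finset.univ (fun o : G ⧸ S => x • o = o)]
  have e1 : Finset.univ.filter (fun o : G ⧸ S => ¬ x • o = o) =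
      Finset.univ.filter (fun o : G ⧸ S => x • o ≠ o ∧ True) := by simp
  rw [e1, h1', add_zero, ← Finset.sum_filter_add_sum_filter_not
    (Finset.univ.filter (fun o : G ⧸ S => x • o = o)) (fun o => y • o = o), Finset.filter_filter,
    Finset.filter_filter]
  have e2 : Finset.univ.filter (fun o : G ⧸ S => x • o = o ∧ ¬ y • o = o) =
      Finset.univ.filter (fun o : G ⧸ S => y • o ≠ o ∧ x • o = o) :=
    Finset.filter_congr fun o _ => ⟨fun h => ⟨h.2, h.1⟩, fun h => ⟨h.2, h.1⟩⟩
  rw [e2, h2', add_zero]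
  refine Finset.sum_congr rfl fun o ho => ?_
  obtain ⟨ha, hb⟩ := (Finset.mem_filter.1 ho).2
  rw [term, ha, hb]

end Cfsg.Agent.Mult93.L34
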