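import Cfsg.Agent.Mult93.L34.Mat
import Cfsg.Agent.Mult93.L34.Cor

/-!
The pairing of the corestricted cocycle on two commuting root elements (helper93).
-/

set_option autoImplicit false
set_option maxHeartbeats 400000

namespace Cfsg.Agent.Mult93.L34

open Matrix

universe u

variable {F : Type u} [Field F]

/-- The cocycle on the unitriangular subgroup. -/
def utCocycle (t : F → R4) (two : F →+ R4) (p q : utGroup F) : R4 :=
  f t two (coords p.1) (coords q.1)

/-- The elements whose first column is that of a diagonal matrix. -/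
def colStab (F : Type u) [Field F] : Subgroup (Matrix.SpecialLinearGroup (Fin 3) F) where
  carrier := {g | g.1 1 0 = 0 ∧ g.1 2 0 = 0}
  one_mem' := by simp
  mul_mem' := by
    rintro g h ⟨g1, g2⟩ ⟨h1, h2⟩
    constructor <;>
      simp [Matrix.mul_apply, Fin.sum_univ_three, g1, g2, h1, h2]
  inv_mem' := by
    rintro g ⟨g1, g2⟩
    have e : ∀ i, ((g⁻¹).1 * g.1) i 0 = (1 : Matrix (Fin 3) (Fin 3) F) i 0 := fun i => by
      rw [← Matrix.SpecialLinearGroup.coe_mul, inv_mul_cancel]; rfl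
    have e0 := e 0
    have e1 := e 1
    have e2 := e 2
    simp [Matrix.mul_apply, Fin.sum_univ_three, g1, g2] at e0 e1 e2
    have hg : g.1 0 0 ≠ 0 := fun h => by simp [h] at e0
    exact ⟨e1.resolve_right hg, e2.resolve_right hg⟩

theorem utGroup_le_colStab : utGroup F ≤ colStab F := by
  rintro _ ⟨p, rfl⟩
  exact ⟨by simp [ut], by simp [ut]⟩

theorem conj_entry (g : Matrix.SpecialLinearGroup (Fin 3) F) (a c : F) (i l : Fin 3) :
    (g⁻¹ * ut (a, 0, c) * g).1 i l =
      (1 : Matrix (Fin 3) (Fin 3) F) i l + (g⁻¹).1 i 0 * (a * g.1 1 l + c * g.1 2 l) := by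
  have e : ((g⁻¹).1 * g.1) i l = (1 : Matrix (Fin 3) (Fin 3) F) i l := by
    rw [← Matrix.SpecialLinearGroup.coe_mul, inv_mul_cancel]; rfl
  have hu : (ut (a, 0, c) : Matrix.SpecialLinearGroup (Fin 3) F).1 =
      !![1, a, c; 0, 1, 0; 0, 0, 1] := rfl
  rw [← e]
  simp only [Matrix.SpecialLinearGroup.coe_mul, hu, Matrix.mul_apply, Fin.sum_univ_three]
  simp
  ring

theorem diag_eq_one {x : Matrix.SpecialLinearGroup (Fin 3) F} (hx : x ∈ utGroup F) (i l : Fin 3)
    (h : l ≤ i) : x.1 i l = (1 : Matrix (Fin 3) (Fin 3) F) i l := by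
  obtain ⟨p, rfl⟩ := hx
  fin_cases i <;> fin_cases l <;> simp [ut] at h ⊢

/-- A coset fixed by both root elements has a representative in `colStab`. -/
theorem mem_colStab_of_conj {g : Matrix.SpecialLinearGroup (Fin 3) F} {c : F} (hc : c ≠ 0)
    (hx : g⁻¹ * ut (1, 0, 0) * g ∈ utGroup F) (hy : g⁻¹ * ut (0, 0, c) * g ∈ utGroup F) :
    g ∈ colStab F := by
  have ex : ∀ i l : Fin 3, l ≤ i → (g⁻¹).1 i 0 * g.1 1 l = 0 := fun i l h => by
    have := diag_eq_one hx i l h
    rw [conj_entry] at this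
    simpa using this
  have ey : ∀ i l : Fin 3, l ≤ i → (g⁻¹).1 i 0 * g.1 2 l = 0 := fun i l h => by
    have := diag_eq_one hy i l h
    rw [conj_entry] at this
    simpa [hc] using this
  have hdet := g.2
  rw [Matrix.det_fin_three] at hdet
  have h2 : (g⁻¹).1 2 0 = 0 := by
    by_contra h
    have a : ∀ l, g.1 1 l = 0 := fun l =>
      (mul_eq_zero.1 (ex 2 l (by fin_cases l <;> decide))).resolve_left h
    simp [a] at hdet
  have h1 : (g⁻¹).1 1 0 = 0 := by
    by_contra h
    have a := fun l hl => (mul_eq_zero.1 (ex 1 l hl)).resolve_left h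
    have b := fun l hl => (mul_eq_zero.1 (ey 1 l hl)).resolve_left h
    simp [a 0 (by decide), a 1 (by decide), b 0 (by decide), b 1 (by decide)] at hdet
  simpa using (colStab F).inv_mem (show g⁻¹ ∈ colStab F from ⟨h1, h2⟩)

theorem inv_col {g : Matrix.SpecialLinearGroup (Fin 3) F} (hg : g ∈ colStab F) :
    (g⁻¹).1 1 0 = 0 ∧ (g⁻¹).1 2 0 = 0 ∧
      (g⁻¹).1 0 0 = g.1 1 1 * g.1 2 2 - g.1 1 2 * g.1 2 1 ∧ (g⁻¹).1 0 0 ≠ 0 := by
  obtain ⟨h1, h2⟩ := (colStab F).inv_mem hg
  have e : ((g⁻¹).1 * g.1) 0 0 = (1 : Matrix (Fin 3) (Fin 3) F) 0 0 := by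
    rw [← Matrix.SpecialLinearGroup.coe_mul, inv_mul_cancel]; rfl
  have hdet := g.2
  rw [Matrix.det_fin_three, hg.1, hg.2] at hdet
  rw [Matrix.mul_apply, Fin.sum_univ_three, hg.1, hg.2, mul_zero, mul_zero, add_zero, add_zero,
    Matrix.one_apply_eq] at e
  refine ⟨h1, h2, mul_right_cancel₀ (b := g.1 0 0) ?_ ?_, fun h => ?_⟩
  · intro h; rw [h, mul_zero] at e; exact zero_ne_one e
  · linear_combination e - hdet
  · rw [h, zero_mul] at e; exact zero_ne_one e

theorem conj_eq_ut {g : Matrix.SpecialLinearGroup (Fin 3) F} (hg : g ∈ colStab F) (a c : F) :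
    g⁻¹ * ut (a, 0, c) * g = ut ((g⁻¹).1 0 0 * (a * g.1 1 1 + c * g.1 2 1), 0,
      (g⁻¹).1 0 0 * (a * g.1 1 2 + c * g.1 2 2)) := by
  obtain ⟨h1, h2, -, -⟩ := inv_col hg
  apply Subtype.ext
  ext i l
  rw [conj_entry]
  fin_cases i <;> fin_cases l <;> simp [ut, h1, h2, hg.1, hg.2]

variable [Fintype F] (hF : Fintype.card F = 4)
include hF

theorem utCocycle_normal {t : F → R4} {two : F →+ R4} (t0 : t 0 = 0) :
    (∀ s, utCocycle t two 1 s = 0) ∧ ∀ s, utCocycle t two s 1 = 0 := by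
  have e : coords (1 : Matrix.SpecialLinearGroup (Fin 3) F) = (0, 0, 0) := by simp [coords]
  constructor <;> intro s <;> simp [utCocycle, f, e, t0]

theorem utCocycle_cocycle {t : F → R4} {two : F →+ R4}
    (ht : ∀ x y, t (x + y) = t x + t y + two ((x * y) ^ 2)) (a b d : utGroup F) :
    utCocycle t two a b + utCocycle t two (a * b) d =
      utCocycle t two a (b * d) + utCocycle t two b d := by
  simp only [utCocycle, Subgroup.coe_mul, coords_mul a.2 b.2, coords_mul b.2 d.2]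
  exact f_cocycle hF ht _ _ _

theorem ut_add (p q : F × F × F) (h : p.1 = 0 ∨ q.2.1 = 0) :
    ut p * ut q = ut (p + q) := by
  rw [ut_mul]
  obtain ⟨a, b, c⟩ := p
  obtain ⟨a', b', c'⟩ := q
  rcases h with h | h <;> simp at h <;> simp [umul, h]

theorem cor_pairing_root {t : F → R4} {two : F →+ R4} (t0 : t 0 = 0)
    (ht : ∀ x y, t (x + y) = t x + t y + two ((x * y) ^ 2))
    [Fintype (Matrix.SpecialLinearGroup (Fin 3) F ⧸ utGroup F)] {c : F} (hc : c ≠ 0) :
    cor (utCocycle t two) (ut (1, 0, 0)) (ut (0, 0, c)) -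
      cor (utCocycle t two) (ut (0, 0, c)) (ut (1, 0, 0)) = two (c ^ 2) := by
  classical
  obtain ⟨n1, n2⟩ := utCocycle_normal hF (two := two) t0
  set X : Matrix.SpecialLinearGroup (Fin 3) F := ut (1, 0, 0) with hX
  set Y : Matrix.SpecialLinearGroup (Fin 3) F := ut (0, 0, c) with hY
  have hsq : ∀ p : F × F × F, p.2.1 = 0 → ut p * ut p = 1 := fun p hp => by
    rw [ut_add hF p p (Or.inr hp), ← ut_zero]
    obtain ⟨a, b, d⟩ := p
    simp [add_self hF]
  have hXY : X * Y = Y * X := by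
    rw [hX, hY, ut_add hF _ _ (Or.inr rfl), ut_add hF _ _ (Or.inr rfl), add_comm]
  rw [cor_pairing _ n1 n2 (utCocycle_cocycle hF ht) hXY (hsq _ rfl) (hsq _ rfl)]
  have hfix : ∀ (x : Matrix.SpecialLinearGroup (Fin 3) F)
      (o : Matrix.SpecialLinearGroup (Fin 3) F ⧸ utGroup F),
      x • o = o ↔ o.out⁻¹ * x * o.out ∈ utGroup F := fun x o => by
    constructor
    · intro h
      rw [← tau_fixed h]
      exact (tau x o).2
    · intro h
      conv_rhs => rw [← QuotientGroup.out_eq' o]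
      conv_lhs => rw [← QuotientGroup.out_eq' o]
      show ((x * o.out : Matrix.SpecialLinearGroup (Fin 3) F) : _ ⧸ utGroup F) = _
      rw [QuotientGroup.eq, show (x * o.out)⁻¹ * o.out = (o.out⁻¹ * x * o.out)⁻¹ by group]
      exact inv_mem h
  have hfilter : ∀ o : Matrix.SpecialLinearGroup (Fin 3) F ⧸ utGroup F,
      (X • o = o ∧ Y • o = o) ↔ o.out ∈ colStab F := fun o => by
    rw [hfix, hfix]
    refine ⟨fun h => mem_colStab_of_conj hc h.1 h.2, fun h => ?_⟩
    rw [hX, hY, conj_eq_ut h, conj_eq_ut h]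
    exact ⟨ut_mem _, ut_mem _⟩
  have hterm : ∀ o ∈ Finset.univ.filter (fun o : Matrix.SpecialLinearGroup (Fin 3) F ⧸ utGroup F =>
      X • o = o ∧ Y • o = o),
      utCocycle t two (tau X o) (tau Y o) - utCocycle t two (tau Y o) (tau X o) = two (c ^ 2) := by
    intro o ho
    obtain ⟨hx, hy⟩ := (Finset.mem_filter.1 ho).2
    have hcol := (hfilter o).1 ⟨hx, hy⟩
    obtain ⟨-, -, hD, hne⟩ := inv_col hcol
    have hcube := pow_three hF hne
    simp only [utCocycle, tau_fixed hx, tau_fixed hy]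
    rw [hX, hY, conj_eq_ut hcol, conj_eq_ut hcol, coords_ut, coords_ut]
    simp only [f, zero_pow two_ne_zero, mul_zero, zero_mul, t0, add_zero, zero_add, map_zero]
    rw [← map_sub]
    congr 1
    set g := o.out
    set k := (g⁻¹).1 0 0
    have h2 := two_zero hF
    have e : k * (0 * g.1 1 1 + c * g.1 2 1) * (k * (1 * g.1 1 2 + 0 * g.1 2 2)) -
        k * (1 * g.1 1 1 + 0 * g.1 2 1) * (k * (0 * g.1 1 2 + c * g.1 2 2)) = -c := by
      linear_combination (-c) * hcube + c * k ^ 2 * hD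
    linear_combination (k * (0 * g.1 1 1 + c * g.1 2 1) * (k * (1 * g.1 1 2 + 0 * g.1 2 2)) -
        k * (1 * g.1 1 1 + 0 * g.1 2 1) * (k * (0 * g.1 1 2 + c * g.1 2 2)) - c) * e +
      ((k * (0 * g.1 1 1 + c * g.1 2 1) * (k * (1 * g.1 1 2 + 0 * g.1 2 2))) *
        (k * (1 * g.1 1 1 + 0 * g.1 2 1) * (k * (0 * g.1 1 2 + c * g.1 2 2))) -
        (k * (1 * g.1 1 1 + 0 * g.1 2 1) * (k * (0 * g.1 1 2 + c * g.1 2 2))) ^ 2) * h2
  rw [Finset.sum_congr rfl hterm, Finset.sum_const]
  have hodd : Odd (Finset.univ.filter (fun o : Matrix.SpecialLinearGroup (Fin 3) F ⧸ utGroup F =>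
      X • o = o ∧ Y • o = o)).card := by
    rw [Finset.filter_congr fun o _ => hfilter o, ← Fintype.card_subtype, ← Nat.card_eq_fintype_card]
    let e : {o : Matrix.SpecialLinearGroup (Fin 3) F ⧸ utGroup F // o.out ∈ colStab F} →
        colStab F ⧸ (utGroup F).subgroupOf (colStab F) := fun o => QuotientGroup.mk ⟨o.1.out, o.2⟩
    have he : Function.Bijective e := by
      refine ⟨fun o o' h => Subtype.ext ?_, fun z => ?_⟩
      · have h' := QuotientGroup.eq.1 h
        rw [← QuotientGroup.out_eq' o.1, ← QuotientGroup.out_eq' o'.1, QuotientGroup.eq]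
        exact h'
      · obtain ⟨z, rfl⟩ := QuotientGroup.mk_surjective z
        set o : Matrix.SpecialLinearGroup (Fin 3) F ⧸ utGroup F := QuotientGroup.mk z.1
        have hm : o.out⁻¹ * z.1 ∈ utGroup F := QuotientGroup.eq.1 (QuotientGroup.out_eq' o)
        have hmem : o.out ∈ colStab F := by
          have := (colStab F).mul_mem z.2 ((colStab F).inv_mem (utGroup_le_colStab hm))
          simpa using this
        exact ⟨⟨o, hmem⟩, QuotientGroup.eq.2 hm⟩
    rw [Nat.card_eq_of_bijective e he]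
    refine Nat.Coprime.odd_of_left (Nat.Coprime.coprime_dvd_right
      (Subgroup.relIndex_dvd_index_of_le utGroup_le_colStab) ?_)
    rw [index_utGroup hF]
    decide
  obtain ⟨m, hm⟩ := hodd
  have h0 : two (c ^ 2) + two (c ^ 2) = 0 := by rw [← map_add, add_self hF, map_zero]
  rw [hm, add_smul, one_smul, mul_smul, two_smul, ← smul_add, h0, smul_zero, zero_add]

end Cfsg.Agent.Mult93.L34
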