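import Cfsg.Agent.Mult93.L34.Bound
import Cfsg.Agent.Mult93.L34.Pairing
import Cfsg.Agent.Lib.LinearGroup.Generation
import Cfsg.Agent.Lib.Schur.Perfect

/-!
The cover of `PSL₃` over four elements with kernel of order `48` (helper93).
-/

set_option autoImplicit false

namespace Cfsg.Agent.Mult93.L34

open Subgroup
open Cfsg.Agent.Mult93.Sz8 (Ext extGroup)
open scoped commutatorElement

universe u

variable {F : Type u} [Field F]

theorem mem_center_scalar {x : Matrix.SpecialLinearGroup (Fin 3) F}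
    (hx : x ∈ center (Matrix.SpecialLinearGroup (Fin 3) F)) :
    ∃ r : F, r ^ 3 = 1 ∧ x.1 = Matrix.scalar (Fin 3) r := by
  obtain ⟨r, hr, hr'⟩ := Matrix.SpecialLinearGroup.mem_center_iff.1 hx
  exact ⟨r, by simpa using hr, hr'.symm⟩

theorem exists_cover [Fintype F] (hF : Fintype.card F = 4) :
    ∃ (Γ : Type u) (_ : Group Γ) (_ : Finite Γ)
      (σ : Γ →* Matrix.ProjectiveSpecialLinearGroup (Fin 3) F),
      Cfsg.IsStemExtension σ ∧
        Nonempty (σ.ker ≃* Multiplicative (ZMod 3 × ZMod 4 × ZMod 4)) := by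
  classical
  obtain ⟨t, two, t0, htwo, -, ht⟩ := exists_lift hF
  obtain ⟨n1, n2⟩ := utCocycle_normal hF (two := two) t0
  haveI : Fintype (Matrix.SpecialLinearGroup (Fin 3) F ⧸ utGroup F) := Fintype.ofFinite _
  have h1 := cor_one_left (utCocycle t two) n1
  have h2 := cor_one_right (utCocycle t two) n2
  have h3 := cor_cocycle (utCocycle t two) (utCocycle_cocycle hF ht)
  letI := extGroup (cor (utCocycle t two)) h1 h3
  let Γ := Ext (cor (utCocycle t two))
  let σ₀ : Γ →* Matrix.SpecialLinearGroup (Fin 3) F := MonoidHom.mk' Ext.g fun _ _ => rfl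
  have hmul : ∀ x y : Γ, (x * y).a = x.a + y.a + cor (utCocycle t two) x.g y.g := fun _ _ => rfl
  have hg : ∀ x y : Γ, (x * y).g = x.g * y.g := fun _ _ => rfl
  have hsur₀ : Function.Surjective σ₀ := fun g => ⟨⟨0, g⟩, rfl⟩
  have hc₀ : σ₀.ker ≤ center Γ := fun x hx => by
    have hx' : x.g = 1 := hx
    refine Subgroup.mem_center_iff.2 fun y => Ext.ext ?_ ?_
    · rw [hmul, hmul, hx', h1, h2]; abel
    · rw [hg, hg, hx', one_mul, mul_one]
  let j : R4 → Γ := fun a => ⟨a, 1⟩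
  have hj : ∀ a b, j a * j b = j (a + b) := fun a b =>
    Ext.ext (by rw [hmul]; simp [j, h1]) (by rw [hg]; simp [j])
  have hker : ∀ x ∈ σ₀.ker, x = j x.a := fun x hx => Ext.ext rfl hx
  obtain ⟨π, hπ, -, hπpair⟩ := exists_bound hF σ₀ hsur₀ hc₀ (MonoidHom.id _) Function.surjective_id
  have htw : ∀ x : F, ∃ a : R4, j a ∈ commutator Γ ∧ a + a = two x := by
    intro x
    rcases eq_or_ne x 0 with rfl | hx
    · exact ⟨0, one_mem _, by simp⟩
    have hx2 : x ^ 2 ≠ 0 := pow_ne_zero 2 hx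
    obtain ⟨z, hz⟩ := hπpair 1 (x ^ 2) ⟨0, ut (1, 0, 0)⟩ ⟨0, ut (0, 0, x ^ 2)⟩ rfl rfl
    obtain ⟨hzk, hzc⟩ := hπ ⟨z, rfl⟩
    refine ⟨(π z).a, hker _ hzk ▸ hzc, ?_⟩
    have hp := cor_pairing_root hF t0 ht hx2
    rw [← pow_mul, pow_four hF] at hp
    have hzz : π z * π z = j ((π z).a + (π z).a) := by
      conv_lhs => rw [hker _ hzk]
      exact hj _ _
    rw [hzz, commutatorElement_def, eq_mul_inv_iff_mul_eq, eq_mul_inv_iff_mul_eq] at hz
    have hz' := congrArg Ext.a hz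
    rw [mul_assoc, hmul, hmul, hmul, hg] at hz'
    simp [j, h1] at hz'
    rw [← hp, eq_sub_iff_add_eq]
    exact hz'
  have hrange : ∀ v : R4, v + v = 0 → ∃ x, two x = v := by
    intro v hv
    have hsub : Finset.univ.image two ⊆ Finset.univ.filter (fun v : R4 => v + v = 0) := fun w hw => by
      obtain ⟨x, -, rfl⟩ := Finset.mem_image.1 hw
      simp [← map_add, add_self hF]
    have heq := Finset.eq_of_subset_of_card_le hsub (by
      rw [Finset.card_image_of_injective _ htwo, Finset.card_univ, hF]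
      decide)
    have : v ∈ Finset.univ.image two := by rw [heq]; simp [hv]
    simpa using this
  have hjmem : ∀ a, j a ∈ commutator Γ := by
    intro a
    obtain ⟨x, hx⟩ := hrange (a + a) (by revert a; decide)
    obtain ⟨y, hy, hy'⟩ := htw x
    obtain ⟨x', hx'⟩ := hrange (a - y) (by
      rw [← add_sub_add_comm, ← hx, hy', sub_self])
    obtain ⟨y', hy1, hy2⟩ := htw x'
    have : a = y + (y' + y') := by rw [hy2, hx']; abel
    rw [this, ← hj, ← hj]
    exact mul_mem hy (mul_mem hy1 hy1)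
  have hperf : commutator Γ = ⊤ := by
    refine eq_top_iff.2 fun x _ => ?_
    have h : (commutator Γ).map σ₀ = commutator (Matrix.SpecialLinearGroup (Fin 3) F) := by
      rw [_root_.commutator_def, map_commutator, Subgroup.map_top_of_surjective σ₀ hsur₀,
        _root_.commutator_def]
    obtain ⟨y, hy, hyx⟩ : σ₀ x ∈ (commutator Γ).map σ₀ := by
      rw [h, Cfsg.Agent.LinearGroup.commutator_SL_eq_top (by simp)]; exact mem_top _
    have hk : y⁻¹ * x ∈ σ₀.ker := by simp [MonoidHom.mem_ker, hyx]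
    rw [show x = y * (y⁻¹ * x) by group]
    refine mul_mem hy ?_
    rw [hker _ hk]
    exact hjmem _
  let ι : Matrix.SpecialLinearGroup (Fin 3) F →* Matrix.ProjectiveSpecialLinearGroup (Fin 3) F :=
    QuotientGroup.mk' (center (Matrix.SpecialLinearGroup (Fin 3) F))
  let σ : Γ →* Matrix.ProjectiveSpecialLinearGroup (Fin 3) F := ι.comp σ₀
  have hkσ : ∀ x : Γ, x ∈ σ.ker ↔ x.g ∈ center (Matrix.SpecialLinearGroup (Fin 3) F) := fun x =>
    QuotientGroup.eq_one_iff _
  have hc : σ.ker ≤ center Γ := fun x hx => by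
    refine Cfsg.Agent.Schur.mem_center_of_perfect ⟨hperf⟩ x fun g => hc₀ ?_
    rw [MonoidHom.mem_ker, map_commutatorElement, commutatorElement_eq_one_iff_mul_comm]
    exact (Subgroup.mem_center_iff.1 ((hkσ x).1 hx) _).symm
  refine ⟨Γ, inferInstance, inferInstance, σ,
    ⟨(QuotientGroup.mk'_surjective _).comp hsur₀, hc, by rw [hperf]; exact le_top⟩, ?_⟩
  obtain ⟨ω, hω, hall⟩ := exists_omega hF
  have hw0 : ω ≠ 0 := by rintro rfl; simp at hω
  have hw1 : ω ≠ 1 := by
    rintro rfl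
    exact one_ne_zero (show (1 : F) = 0 by linear_combination hω - two_zero hF)
  have hw3 : ω ^ 3 = 1 := pow_three hF hw0
  let Z : Matrix.SpecialLinearGroup (Fin 3) F :=
    ⟨Matrix.scalar (Fin 3) ω, by simp [hw3]⟩
  have hZ : Z ∈ center (Matrix.SpecialLinearGroup (Fin 3) F) :=
    Matrix.SpecialLinearGroup.mem_center_iff.2 ⟨ω, by simpa using hw3, rfl⟩
  let g₀ : Γ := ⟨0, Z⟩
  let g : Γ := g₀ ^ 4
  have hZ3 : Z ^ 3 = 1 := Subtype.ext (by
    rw [Matrix.SpecialLinearGroup.coe_pow, ← map_pow, hw3, map_one]; rfl)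
  have hσg : σ₀ g = Z := by
    rw [map_pow]
    show Z ^ 4 = Z
    rw [pow_succ, hZ3, one_mul]
  have hjpow : ∀ a, j a ^ 4 = 1 := fun a => by
    have h4 : a + a + (a + a) = 0 := by revert a; decide
    rw [show 4 = 2 + 2 from rfl, pow_add, sq, hj, hj, h4]; rfl
  have hg3 : g ^ 3 = 1 := by
    have hk : g₀ ^ 3 ∈ σ₀.ker := by rw [MonoidHom.mem_ker, map_pow]; exact hZ3
    rw [← pow_mul, mul_comm, pow_mul, hker _ hk, hjpow]
  have hgk : g ∈ σ.ker := (hkσ g).2 (by rw [show g.g = Z from hσg]; exact hZ)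
  have hjk : ∀ a, j a ∈ σ.ker := fun a => (hkσ _).2 (one_mem _)
  let ψ : Multiplicative (ZMod 3 × ZMod 4 × ZMod 4) →* σ.ker := MonoidHom.mk'
    (fun v => ⟨g ^ v.toAdd.1.val * j v.toAdd.2, mul_mem (pow_mem hgk _) (hjk _)⟩)
    fun v w => Subtype.ext (by
      show g ^ (v.toAdd.1 + w.toAdd.1).val * j (v.toAdd.2 + w.toAdd.2) =
        g ^ v.toAdd.1.val * j v.toAdd.2 * (g ^ w.toAdd.1.val * j w.toAdd.2)
      rw [ZMod.val_add, ← pow_eq_pow_mod _ hg3, pow_add, ← hj]
      exact (show Commute (g ^ w.toAdd.1.val) (j v.toAdd.2) from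
        Subgroup.mem_center_iff.1 (hc (hjk v.toAdd.2)) _).mul_mul_mul_comm _ _)
  have hσψ : ∀ (n : ℕ) (a : R4), σ₀ (g ^ n * j a) = Z ^ n := fun n a => by
    rw [map_mul, map_pow, hσg]; exact mul_one _
  have hZn : ∀ n : ℕ, n < 3 → Z ^ n = 1 → n = 0 := by
    intro n hn h
    have h' : ω ^ n = 1 := by
      have := congrArg (fun M : Matrix.SpecialLinearGroup (Fin 3) F => M.1 0 0) h
      rw [Matrix.SpecialLinearGroup.coe_pow, ← map_pow] at this
      simpa using this
    interval_cases n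
    · rfl
    · exact absurd (by simpa using h') hw1
    · exact absurd (by linear_combination hw3 - h' * ω : ω = 1) hw1
  refine ⟨(MulEquiv.ofBijective ψ ⟨?_, ?_⟩).symm⟩
  · rw [injective_iff_map_eq_one]
    intro v hv
    have hv' : g ^ v.toAdd.1.val * j v.toAdd.2 = 1 := congrArg Subtype.val hv
    have h0 := hσψ v.toAdd.1.val v.toAdd.2
    rw [hv', map_one] at h0
    have h1' := hZn _ (ZMod.val_lt _) h0.symm
    rw [h1', pow_zero, one_mul] at hv'
    exact Prod.ext ((ZMod.val_eq_zero _).1 h1') (congrArg Ext.a hv')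
  · rintro ⟨x, hx⟩
    obtain ⟨r, hr, hr'⟩ := mem_center_scalar ((hkσ x).1 hx)
    obtain ⟨i, rfl⟩ : ∃ i : ZMod 3, ω ^ i.val = r := by
      rcases hall r with h | h | h | h <;> rw [h]
      · rw [h] at hr; simp at hr
      · exact ⟨0, by simp⟩
      · exact ⟨1, by rw [show (1 : ZMod 3).val = 1 from rfl, pow_one]⟩
      · exact ⟨2, by
          rw [show (2 : ZMod 3).val = 2 from rfl]
          linear_combination hω - (ω + 1) * two_zero hF⟩
    have hk : (g ^ i.val)⁻¹ * x ∈ σ₀.ker := by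
      rw [MonoidHom.mem_ker, map_mul, map_inv, map_pow, hσg, inv_mul_eq_one]
      refine Subtype.ext ?_
      rw [Matrix.SpecialLinearGroup.coe_pow, ← map_pow]
      exact hr'.symm
    refine ⟨Multiplicative.ofAdd (i, ((g ^ i.val)⁻¹ * x).a), Subtype.ext ?_⟩
    show g ^ i.val * j ((g ^ i.val)⁻¹ * x).a = x
    rw [← hker _ hk, mul_inv_cancel_left]

end Cfsg.Agent.Mult93.L34
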