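import Cfsg.Agent.Mult93.L34.Cocycle
import Cfsg.Agent.Lib.LinearGroup.Card

/-!
The unitriangular subgroup of `SL₃` over four elements and some monomial elements (helper93).
-/

set_option autoImplicit false

namespace Cfsg.Agent.Mult93.L34

open Matrix

universe u

variable {F : Type u} [Field F]

/-- The unitriangular element with coordinates `(a, b, c)`. -/
def ut (p : F × F × F) : Matrix.SpecialLinearGroup (Fin 3) F :=
  ⟨!![1, p.1, p.2.2; 0, 1, p.2.1; 0, 0, 1], by simp [Matrix.det_fin_three]⟩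

/-- The coordinates. -/
def coords (g : Matrix.SpecialLinearGroup (Fin 3) F) : F × F × F := (g.1 0 1, g.1 1 2, g.1 0 2)

theorem coords_ut (p : F × F × F) : coords (ut p) = p := by simp [coords, ut]

theorem ut_mul (p q : F × F × F) : ut p * ut q = ut (umul p q) := by
  apply Subtype.ext
  rw [Matrix.SpecialLinearGroup.coe_mul]
  simp only [ut]
  ext i j
  fin_cases i <;> fin_cases j <;> simp [umul, Matrix.mul_apply, Fin.sum_univ_three] <;> ring_nf

theorem ut_zero : ut ((0, 0, 0) : F × F × F) = 1 := by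
  ext i j
  fin_cases i <;> fin_cases j <;> simp [ut]

/-- The unitriangular subgroup. -/
def utGroup (F : Type u) [Field F] : Subgroup (Matrix.SpecialLinearGroup (Fin 3) F) where
  carrier := Set.range ut
  one_mem' := ⟨_, ut_zero⟩
  mul_mem' := by
    rintro _ _ ⟨p, rfl⟩ ⟨q, rfl⟩
    exact ⟨_, (ut_mul p q).symm⟩
  inv_mem' := by
    rintro _ ⟨p, rfl⟩
    refine ⟨(-p.1, -p.2.1, -p.2.2 + p.1 * p.2.1), (inv_eq_of_mul_eq_one_right ?_).symm⟩
    rw [ut_mul, ← ut_zero]
    simp [umul]

theorem ut_mem (p : F × F × F) : ut p ∈ utGroup F := ⟨p, rfl⟩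

theorem ut_coords {g : Matrix.SpecialLinearGroup (Fin 3) F} (hg : g ∈ utGroup F) :
    ut (coords g) = g := by
  obtain ⟨p, rfl⟩ := hg
  rw [coords_ut]

theorem coords_mul {g h : Matrix.SpecialLinearGroup (Fin 3) F} (hg : g ∈ utGroup F)
    (hh : h ∈ utGroup F) : coords (g * h) = umul (coords g) (coords h) := by
  obtain ⟨p, rfl⟩ := hg
  obtain ⟨q, rfl⟩ := hh
  rw [ut_mul, coords_ut, coords_ut, coords_ut]

theorem card_utGroup [Fintype F] : Nat.card (utGroup F) = Fintype.card F ^ 3 := by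
  rw [← Nat.card_congr (Equiv.ofBijective (fun p => (⟨ut p, ut_mem p⟩ : utGroup F))
    ⟨fun p q h => by
      have := congrArg (fun x : utGroup F => coords x.1) h
      simpa [coords_ut] using this,
    fun x => x.2.elim fun p hp => ⟨p, Subtype.ext hp⟩⟩), Nat.card_eq_fintype_card,
    Fintype.card_prod, Fintype.card_prod]
  ring

variable [Fintype F] (hF : Fintype.card F = 4)
include hF

theorem card_SL : Nat.card (Matrix.SpecialLinearGroup (Fin 3) F) = 60480 := by
  have h := Cfsg.Agent.LinearGroup.card_SL_eq_pow_mul_prod (F := F) 2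
  rw [Nat.card_eq_fintype_card (α := F), hF] at h
  rw [h]
  decide

theorem index_utGroup : (utGroup F).index = 945 := by
  have h := Subgroup.card_mul_index (utGroup F)
  rw [card_utGroup, hF, card_SL hF] at h
  norm_num at h
  omega

theorem neg_eq (x : F) : -x = x := by linear_combination -(add_self hF x)

/-- The diagonal element `diag(k, 1, k⁻¹)`. -/
noncomputable def tor {k : F} (hk : k ≠ 0) : Matrix.SpecialLinearGroup (Fin 3) F :=
  ⟨!![k, 0, 0; 0, 1, 0; 0, 0, k ^ 2], by
    simp [Matrix.det_fin_three, ← pow_succ', pow_three hF hk]⟩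

theorem tor_conj {k : F} (hk : k ≠ 0) (a b c : F) :
    tor hF hk * ut (a, b, c) * (tor hF hk)⁻¹ = ut (k * a, k * b, k ^ 2 * c) := by
  have h3 := pow_three hF hk
  rw [mul_inv_eq_iff_eq_mul]
  apply Subtype.ext
  rw [Matrix.SpecialLinearGroup.coe_mul, Matrix.SpecialLinearGroup.coe_mul]
  simp only [ut, tor]
  ext i j
  fin_cases i <;> fin_cases j <;> simp [Matrix.mul_apply, Fin.sum_univ_three] <;>
    grind

/-- Swap of the last two coordinates. -/
def swap23 : Matrix.SpecialLinearGroup (Fin 3) F :=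
  ⟨!![1, 0, 0; 0, 0, 1; 0, 1, 0], by simp [Matrix.det_fin_three, neg_eq hF]⟩

/-- Swap of the first two coordinates. -/
def swap12 : Matrix.SpecialLinearGroup (Fin 3) F :=
  ⟨!![0, 1, 0; 1, 0, 0; 0, 0, 1], by simp [Matrix.det_fin_three, neg_eq hF]⟩

theorem swap23_conj (a : F) : swap23 hF * ut (a, 0, 0) * (swap23 hF)⁻¹ = ut (0, 0, a) := by
  rw [mul_inv_eq_iff_eq_mul]
  apply Subtype.ext
  rw [Matrix.SpecialLinearGroup.coe_mul, Matrix.SpecialLinearGroup.coe_mul]
  simp only [ut, swap23]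
  ext i j
  fin_cases i <;> fin_cases j <;> simp [Matrix.mul_apply, Fin.sum_univ_three]

theorem swap12_conj (a : F) : swap12 hF * ut (0, a, 0) * (swap12 hF)⁻¹ = ut (0, 0, a) := by
  rw [mul_inv_eq_iff_eq_mul]
  apply Subtype.ext
  rw [Matrix.SpecialLinearGroup.coe_mul, Matrix.SpecialLinearGroup.coe_mul]
  simp only [ut, swap12]
  ext i j
  fin_cases i <;> fin_cases j <;> simp [Matrix.mul_apply, Fin.sum_univ_three]

theorem shear_left (a : F) : ut (0, 1, 0) * ut (a, 0, 0) * (ut (0, 1, 0))⁻¹ =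
    ut (a, 0, 0) * ut (0, 0, a) := by
  rw [mul_inv_eq_iff_eq_mul, ut_mul, ut_mul, ut_mul]
  simp [umul, add_self hF]

theorem shear_right (a : F) : ut (1, 0, 0) * ut (0, a, 0) * (ut (1, 0, 0))⁻¹ =
    ut (0, a, 0) * ut (0, 0, a) := by
  rw [mul_inv_eq_iff_eq_mul, ut_mul, ut_mul, ut_mul]
  simp [umul]

end Cfsg.Agent.Mult93.L34
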