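import Cfsg.Agent.Mult93.L34.Mat
import Cfsg.Agent.Lib.Schur.Basic

/-!
Lifts of a pair of commuting root groups in a central extension (helper93).
-/

set_option autoImplicit false

namespace Cfsg.Agent.Mult93.L34

open Subgroup
open scoped commutatorElement

universe u v w

variable {Γ : Type u} [Group Γ] {G : Type v} [Group G] {σ : Γ →* G} (hc : σ.ker ≤ center Γ)
include hc

/-- Commutators depend only on the images. -/
theorem comm_congr {v w v' w' : Γ} (hv : σ v = σ v') (hw : σ w = σ w') : ⁅v, w⁆ = ⁅v', w'⁆ := by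
  have h1 : v'⁻¹ * v ∈ center Γ := hc (by simp [MonoidHom.mem_ker, hv])
  have h2 : w'⁻¹ * w ∈ center Γ := hc (by simp [MonoidHom.mem_ker, hw])
  simpa using Cfsg.Agent.Schur.commutatorElement_mul_central h1 h2 v' w'

theorem ker_comm {x : Γ} (hx : x ∈ σ.ker) (g : Γ) : g * x = x * g :=
  Subgroup.mem_center_iff.1 (hc hx) g

theorem comm_mem_ker {v w : Γ} (h : Commute (σ v) (σ w)) : ⁅v, w⁆ ∈ σ.ker := by
  rw [MonoidHom.mem_ker, map_commutatorElement, commutatorElement_eq_one_iff_commute]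
  exact h

theorem comm_mul_left {x y z : Γ} (h : ⁅y, z⁆ ∈ σ.ker) : ⁅x * y, z⁆ = ⁅x, z⁆ * ⁅y, z⁆ := by
  rw [show ⁅x * y, z⁆ = x * ⁅y, z⁆ * x⁻¹ * ⁅x, z⁆ by simp only [commutatorElement_def]; group,
    ker_comm hc h x, mul_inv_cancel_right]
  exact (ker_comm hc h _).symm

theorem comm_mul_right {x y z : Γ} (h : ⁅x, z⁆ ∈ σ.ker) : ⁅x, y * z⁆ = ⁅x, y⁆ * ⁅x, z⁆ := by
  rw [show ⁅x, y * z⁆ = ⁅x, y⁆ * (y * ⁅x, z⁆ * y⁻¹) by simp only [commutatorElement_def]; group,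
    ker_comm hc h y, mul_inv_cancel_right]

theorem comm_conj {v w : Γ} (h : ⁅v, w⁆ ∈ σ.ker) (t : Γ) :
    ⁅t * v * t⁻¹, t * w * t⁻¹⁆ = ⁅v, w⁆ := by
  rw [show ⁅t * v * t⁻¹, t * w * t⁻¹⁆ = t * ⁅v, w⁆ * t⁻¹ by simp only [commutatorElement_def]; group,
    ker_comm hc h t, mul_inv_cancel_right]

variable (hσ : Function.Surjective σ)
include hσ

variable {F : Type w} [Field F] [Fintype F] (hF : Fintype.card F = 4)
include hF

/-- Lifts of two commuting root groups with a torus of weights `(1, 2)`, an element exchanging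
them and a shear. -/
theorem exists_pairing (P Q : F → G) (hP : ∀ a a', P (a + a') = P a * P a')
    (hQ : ∀ a a', Q (a + a') = Q a * Q a') (hPQ : ∀ a c, Commute (P a) (Q c))
    (hT : ∀ k : F, k ≠ 0 → ∃ τ : G, (∀ a, τ * P a * τ⁻¹ = P (k * a)) ∧
      ∀ c, τ * Q c * τ⁻¹ = Q (k ^ 2 * c))
    (hW : ∃ τ : G, ∀ a, τ * P a * τ⁻¹ = Q a) (hU : ∃ τ : G, ∀ a, τ * P a * τ⁻¹ = P a * Q a)
    (p q : F → Γ) (hp : ∀ a, σ (p a) = P a) (hq : ∀ a, σ (q a) = Q a) :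
    (∀ a a', ⁅p a, p a'⁆ = 1) ∧ (∀ a a', ⁅q a, q a'⁆ = 1) ∧
      ∃ L : F → Γ, (∀ a c, ⁅p a, q c⁆ = L (a * c)) ∧ (∀ x, L x ∈ σ.ker) ∧
        (∀ x y, L (x + y) = L x * L y) ∧ ∀ x, L x * L x = 1 := by
  have hP0 : P 0 = 1 := by simpa using hP 0 0
  have hQ0 : Q 0 = 1 := by simpa using hQ 0 0
  have mpp : ∀ a a', ⁅p a, p a'⁆ ∈ σ.ker := fun a a' => comm_mem_ker hc (by
    rw [hp, hp]; show P a * P a' = P a' * P a; rw [← hP, ← hP, add_comm])
  have mqq : ∀ a a', ⁅q a, q a'⁆ ∈ σ.ker := fun a a' => comm_mem_ker hc (by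
    rw [hq, hq]; show Q a * Q a' = Q a' * Q a; rw [← hQ, ← hQ, add_comm])
  have mpq : ∀ a c, ⁅p a, q c⁆ ∈ σ.ker := fun a c => comm_mem_ker hc (by
    rw [hp, hq]; exact hPQ a c)
  let L : F → Γ := fun x => ⁅p 1, q x⁆
  have hLadd : ∀ x y, L (x + y) = L x * L y := fun x y => by
    show ⁅p 1, q (x + y)⁆ = ⁅p 1, q x⁆ * ⁅p 1, q y⁆
    rw [comm_congr hc rfl (show σ (q (x + y)) = σ (q x * q y) by rw [map_mul, hq, hq, hq, hQ]),
      comm_mul_right hc (mpq 1 y)]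
  have hL0 : L 0 = 1 := by
    show ⁅p 1, q 0⁆ = 1
    rw [comm_congr hc rfl (show σ (q 0) = σ 1 by rw [hq, hQ0, map_one]), commutatorElement_one_right]
  have hLsq : ∀ x, L x * L x = 1 := fun x => by rw [← hLadd, add_self hF, hL0]
  have hL : ∀ a c, ⁅p a, q c⁆ = L (a * c) := by
    intro a c
    rcases eq_or_ne a 0 with rfl | ha
    · rw [zero_mul, hL0, comm_congr hc (show σ (p 0) = σ 1 by rw [hp, hP0, map_one]) rfl,
        commutatorElement_one_left]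
    · obtain ⟨τ, hτP, hτQ⟩ := hT a ha
      obtain ⟨t, rfl⟩ := hσ τ
      show _ = ⁅p 1, q (a * c)⁆
      rw [← comm_conj hc (mpq 1 (a * c)) t]
      refine comm_congr hc ?_ ?_
      · rw [map_mul, map_mul, map_inv, hp, hp, hτP, mul_one]
      · rw [map_mul, map_mul, map_inv, hq, hq, hτQ, ← mul_assoc, ← pow_succ, pow_three hF ha, one_mul]
  have hKQ : ∀ a a', ⁅q a, q a'⁆ = 1 := by
    intro a a'
    obtain ⟨τ, hτ⟩ := hU
    obtain ⟨t, rfl⟩ := hσ τ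
    have h := comm_conj hc (mpp a a') t
    rw [comm_congr hc (v' := p a * q a) (w' := p a' * q a')
      (by rw [map_mul, map_mul, map_inv, hp, hτ, map_mul, hp, hq])
      (by rw [map_mul, map_mul, map_inv, hp, hτ, map_mul, hp, hq])] at h
    have hyz : ⁅q a, p a'⁆ = L (a' * a) := by
      rw [← hL, ← commutatorElement_inv]
      refine inv_eq_of_mul_eq_one_right ?_
      rw [hL]; exact hLsq _
    have e1 : ⁅p a, p a' * q a'⁆ = ⁅p a, p a'⁆ * L (a * a') := by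
      rw [comm_mul_right hc (mpq a a'), hL]
    have e2 : ⁅q a, p a' * q a'⁆ = L (a' * a) * ⁅q a, q a'⁆ := by
      rw [comm_mul_right hc (mqq a a'), hyz]
    have m2 : ⁅q a, p a' * q a'⁆ ∈ σ.ker := by
      rw [e2]; exact mul_mem (mpq 1 (a' * a)) (mqq a a')
    rw [comm_mul_left hc m2, e1, e2, mul_comm a' a, mul_assoc, ← mul_assoc (L (a * a')), hLsq,
      one_mul] at h
    exact mul_eq_left.1 h
  refine ⟨fun a a' => ?_, hKQ, L, hL, fun x => mpq 1 x, hLadd, hLsq⟩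
  obtain ⟨τ, hτ⟩ := hW
  obtain ⟨t, rfl⟩ := hσ τ
  rw [← comm_conj hc (mpp a a') t]
  refine (comm_congr hc ?_ ?_).trans (hKQ a a') <;> rw [map_mul, map_mul, map_inv, hp, hτ, hq]

end Cfsg.Agent.Mult93.L34
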